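import Groth.Agent.PicBlowUp13.Canon
import Groth.Agent.BlowUpCoh.EulerPush
import Groth.Agent.SurfBl13.EndPush
import Groth.Agent.Lef23.Formal
import Groth.Agent.DimLib.Morphism
import Groth.Prelude.Def_W4c2seshadriposJets

/-! Cohomology of twisted powers of an exceptional line. -/

set_option autoImplicit false
set_option linter.style.haveILetI false
set_option linter.unusedSectionVars false
set_option backward.isDefEq.respectTransparency.types false
set_option maxHeartbeats 2000000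

universe u

open CategoryTheory CategoryTheory.Limits AlgebraicGeometry TopologicalSpace Opposite
open Groth.Agent.Coherent Groth.Agent.PicLib Groth.Agent.AmpleLib Groth.Agent.EulerLib Groth.Agent.CurveRR24

namespace Groth.Agent.PicBlowUp13

/-- The blow-up of a point of a smooth surface is a smooth surface. -/
theorem blowUp_point_surface (k : Type u) [Field k] [IsAlgClosed k] {X Y : Scheme.{u}}
    (p : X ⟶ Spec (CommRingCat.of k)) [IsProper p] [IsIntegral X]
    (hreg : ∀ x : X, IsRegularLocalRing (X.presheaf.stalk x)) (hdim : topologicalKrullDim X = ((2 : ℕ) : WithBot ℕ∞))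
    (x : X) (hx : IsClosed ({x} : Set X)) (hxd : ringKrullDim (X.presheaf.stalk x) = 2) (f : Y ⟶ X)
    (hbl : BlowUp.IsBlowUp f (Scheme.IdealSheafData.vanishingIdeal ⟨{x}, hx⟩)) :
    IsIntegral Y ∧ IsProper (f ≫ p) ∧ (∀ y : Y, IsRegularLocalRing (Y.presheaf.stalk y)) ∧
      topologicalKrullDim Y = ((2 : ℕ) : WithBot ℕ∞) := by
  haveI : IsLocallyNoetherian X := LocallyOfFiniteType.isLocallyNoetherian p
  let I := Scheme.IdealSheafData.vanishingIdeal (X := X) ⟨{x}, hx⟩
  have hx0 : x ≠ genericPoint X := fun h => by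
    rw [h, ringKrullDim_stalk_eq_coheight,
      Order.coheight_eq_zero.2 (fun z _ => Scheme.le_iff_specializes.2 (genericPoint_specializes z))] at hxd
    exact absurd (WithBot.coe_inj.1 hxd : (0 : ℕ∞) = 2) (by simp)
  haveI : IsIntegral Y := Models7.isIntegral_pointBlowUp hreg x hx hx0 f hbl
  haveI : IsProper f := BlowUpLib.isProper_of_isBlowUp hbl (FlatMorAdm.isFiniteTypeIdeal_of_noetherian I)
  refine ⟨inferInstance, inferInstance, Models7.isRegular_pointBlowUp hreg x hx f hbl, ?_⟩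
  haveI := SDiv28.isIso_off_center hbl
  haveI := SDiv28.isOpenImmersion_offCenter hbl
  let U : X.Opens := I.support.compl
  have hU : (U : Set X).Nonempty := ⟨genericPoint X, fun h =>
    hx0 (Set.mem_singleton_iff.1 ((Scheme.IdealSheafData.coe_support_vanishingIdeal _).le h)).symm⟩
  obtain ⟨hgen, -⟩ := Coherent.birational_of_isIso_morphismRestrict f U hU
  let V := SDiv28.offCenter f I
  have hηV : genericPoint Y ∈ V := by
    show f (genericPoint Y) ∈ U
    rw [hgen]
    exact ((genericPoint_spec X).mem_open_set_iff U.2).2 (by obtain ⟨z, hz⟩ := hU; exact ⟨z, trivial, hz⟩)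
  have h1 := DimLib.ptDim_comp_preimmersion (f ≫ p) V.ι ⟨_, hηV⟩
  have h2 := DimLib.ptDim_comp_preimmersion p (V.ι ≫ f) ⟨_, hηV⟩
  rw [Category.assoc] at h2
  rw [DimLib.topologicalKrullDim_eq_ptDim_genericPoint (f ≫ p),
    show DimLib.ptDim (f ≫ p) (genericPoint Y) = DimLib.ptDim p (genericPoint X) from
      h1.symm.trans (h2.trans (congrArg (DimLib.ptDim p) hgen)),
    ← DimLib.topologicalKrullDim_eq_ptDim_genericPoint p]
  exact hdim

variable (k : Type u) [Field k] [IsAlgClosed k]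

theorem finrank_twisted_pow (X : Scheme.{u}) [X.Over (Spec (CommRingCat.of k))] [IsProper (X ↘ (Spec (CommRingCat.of k)))]
    [Smooth (X ↘ (Spec (CommRingCat.of k)))] [IsIntegral X] (hdim : topologicalKrullDim X = ((2 : ℕ) : WithBot ℕ∞))
    (ωX : X.Modules) (hωX : ExtPow.IsExtPow 2 (Omega.sheaf (X ↘ (Spec (CommRingCat.of k)))) ωX)
    (L : X.Modules) (hL : PicF.IsInvertible L)
    (x : X) (hx : IsClosed ({x} : Set X)) (r : ℕ)
    (Y : Scheme.{u}) [Y.Over (Spec (CommRingCat.of k))] (f : Y ⟶ X)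
    (hf : f ≫ (X ↘ (Spec (CommRingCat.of k))) = Y ↘ (Spec (CommRingCat.of k)))
    (hbl : BlowUp.IsBlowUp f (Scheme.IdealSheafData.vanishingIdeal ⟨{x}, hx⟩))
    (ωY : Y.Modules) (hωY : ExtPow.IsExtPow 2 (Omega.sheaf (Y ↘ (Spec (CommRingCat.of k)))) ωY) (i : ℕ) :
    Module.finrank k (Coh.HH X (CohB1.tensorMod (ClSub.idealMod ((Scheme.IdealSheafData.vanishingIdeal ⟨{x}, hx⟩) ^ r))
        (CohB1.tensorMod L ωX)) i) =
      Module.finrank k (Coh.HH Y (CohB1.tensorMod
        (ClSub.idealMod ((BlowUp.exceptional f (Scheme.IdealSheafData.vanishingIdeal ⟨{x}, hx⟩)) ^ (r + 1)))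
        (CohB1.tensorMod ((Scheme.Modules.pullback f).obj L) ωY)) i) := by
  haveI := isNoetherian_of_proper (X := X) k
  haveI : SmoothOfRelativeDimension 2 (X ↘ Spec (CommRingCat.of k)) := GenSmoothLib.smoothOfRelativeDimension_toField _ hdim
  have hreg : ∀ z : X, IsRegularLocalRing (X.presheaf.stalk z) := fun z =>
    VarietyLib.isRegularLocalRing_stalk_of_smooth k X (X ↘ Spec (CommRingCat.of k)) z
  obtain ⟨hxr, hxd⟩ := SurfBl13.regular_of_surface k (X ↘ Spec (CommRingCat.of k)) x hx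
  obtain ⟨hYi, hYp, hYreg, hYdim⟩ := blowUp_point_surface k (X ↘ Spec (CommRingCat.of k)) hreg hdim x hx hxd f hbl
  haveI := hYi
  haveI : IsProper (Y ↘ Spec (CommRingCat.of k)) := hf ▸ hYp
  haveI : Smooth (Y ↘ Spec (CommRingCat.of k)) := CurveRR24.smooth_of_regular_closedPoints _ fun y _ => hYreg y
  obtain ⟨⟨ec⟩, -⟩ := canonical_blowUp_point k hdim hYdim hreg x hx f hf hbl hωX hωY
  let Z : Closeds X := ⟨{x}, hx⟩
  let I := Scheme.IdealSheafData.vanishingIdeal Z
  let E := BlowUp.exceptional f I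
  have hpts : SurfBl13.Points Z := fun z hz => by
    obtain rfl : z = x := hz
    exact ⟨hx, by simp [Z], hxr, hxd⟩
  have hKB : BlowUpCoh.KoszulBasis I 1 := BlowUpCoh.koszulBasis_of_local fun z hz => by
    have hzZ : z ∈ Z := (Scheme.IdealSheafData.coe_support_vanishingIdeal Z).le hz
    obtain ⟨hc, hr, hreg, hd⟩ := hpts z hzZ
    obtain ⟨U, g, hxU, -, hg1, hg2, -⟩ := SurfBl13.exists_local_gen_isolated z hc hr hzZ hd
    exact ⟨U, 1, g, hxU, le_rfl, hg1, hg2⟩
  haveI : IsProper f := SurfBl13.isProper_blowUp f hbl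
  have hωi := Surf15.isInvertible_canonical k hdim hωX
  have hωi' := Surf15.isInvertible_canonical k hYdim hωY
  let A := CohB1.tensorMod L ωX
  have hA : PicF.IsInvertible A := isInvertible_tensorMod hL hωi
  have hAF : FlatMod.IsFinLocFree A := fun z =>
    let ⟨U, hz, e⟩ := isFinLocFreeOfRank_one hA z; ⟨U, 1, hz, e⟩
  have hIe := fun m => FlatMor12.IdealModGen.isInvertible_idealMod _ (Inters29.isEffCartier_pow (hbl.1 : BlowUp.IsEffCartierIdeal E) m)
  have hI := FlatMor12.IdealModGen.isInvertible_idealMod E hbl.1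
  have hpow : ∀ m, PicM.of (hIe m) = PicM.of hI ^ m := fun m => by
    rw [← PicM.of_tensorPow, PicM.of_eq_iff]
    exact Lef23.nonempty_idealMod_pow E hbl.1 m
  have hc : PicM.of hωi' * PicM.of hI = PicM.of (PicLoc.isInvertible_pullback f hωi) := by
    rw [PicM.of_mul, PicM.of_eq_iff]; exact ⟨ec⟩
  have key : PicM.of (hIe (r + 1)) * (PicM.of (PicLoc.isInvertible_pullback f hL) * PicM.of hωi') =
      PicM.of (PicLoc.isInvertible_pullback f hA) * PicM.of (hIe r) := by
    have hA' : PicM.of (PicLoc.isInvertible_pullback f hA) =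
        PicM.of (PicLoc.isInvertible_pullback f hL) * PicM.of (PicLoc.isInvertible_pullback f hωi) := by
      exact map_mul (PicM.pull f) (PicM.of hL) (PicM.of hωi)
    rw [hA', ← hc, hpow, hpow, pow_succ]
    ac_rfl
  rw [PicM.of_mul, PicM.of_mul, PicM.of_mul, PicM.of_eq_iff] at key
  obtain ⟨e⟩ := key
  haveI := MorProj.isQCoh_idealMod (E ^ r)
  haveI : Coh.IsQCoh ((Scheme.Modules.pullback f).obj A) := isQCoh_of_isInvertible (PicLoc.isInvertible_pullback f hA)
  haveI : Coh.IsQCoh (CohB1.tensorMod ((Scheme.Modules.pullback f).obj A) (ClSub.idealMod (E ^ r))) := isQCoh_tensorMod _ _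
  obtain ⟨T⟩ := BlowUpCoh.exists_twistPow E r
  obtain ⟨θ⟩ := SurfBl13.nonempty_HH_push_equiv f k hf
    (CohB1.tensorMod ((Scheme.Modules.pullback f).obj A) (ClSub.idealMod (E ^ r)))
    (fun p hp => BlowUpCoh.isZero_rpushAb_tensor_pullback f hAF _ p (BlowUpCoh.isZero_rpushAb hbl hKB T (by omega) p hp)) i
  obtain ⟨e₂⟩ := BlowUpCoh.nonempty_pushforward_idealPow hbl hKB r
  rw [finrank_HH_congr k e i, θ.finrank_eq]
  exact finrank_HH_congr k (tensorComm _ _ ≪≫ (tensE A).mapIso e₂.symm ≪≫ (Coherent.projIso (f := f) hAF).app _) i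

end Groth.Agent.PicBlowUp13
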