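import Groth.Agent.PicBlowUp13.Main
import Groth.Agent.SurfBl13.R1Euler
import Groth.Agent.Resolve13.PointExc
import Groth.Agent.Surf15.RRCor
import Groth.Agent.Surf15.IntPush
import Groth.Agent.Surf15.Adjunction
import Groth.Agent.Omega15.Geometry
import Groth.Agent.AbCohLib.OmegaCoh
import Groth.Agent.KvbLam28.Basic

/-! The canonical class of the blow-up of a point of a surface. -/

set_option autoImplicit false
set_option linter.style.haveILetI false
set_option linter.unusedSectionVars false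
set_option backward.isDefEq.respectTransparency.types false
set_option maxHeartbeats 2000000

universe u

open CategoryTheory CategoryTheory.Limits AlgebraicGeometry TopologicalSpace Opposite
open Groth.Agent.Coherent Groth.Agent.PicLib Groth.Agent.AmpleLib Groth.Agent.EulerLib Groth.Agent.CurveRR24
open Groth.Agent.Surf15

namespace Groth.Agent.PicBlowUp13

theorem omega_restrict {S X Z : Scheme.{u}} (v : Z ⟶ X) [IsOpenImmersion v] (f : X ⟶ S) (g : Z ⟶ S) [QuasiSeparated f] [QuasiSeparated g] (hg : v ≫ f = g) :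
    Nonempty ((Scheme.Modules.pullback v).obj (Omega.sheaf f) ≅ Omega.sheaf g) := by
  have hsq : v ≫ f = g ≫ 𝟙 S := hg.trans (Category.comp_id _).symm
  obtain ⟨c, hc, -⟩ := Omega15.existsUnique_compat v (𝟙 S) hsq.symm (OmegaLib.isUniversal_dOmega f) (OmegaSh.dOmega g)
  haveI := Omega15.isIso_of_etale v (𝟙 S) hsq (OmegaLib.isUniversal_dOmega f) (OmegaLib.isUniversal_dOmega g) hc
  exact ⟨asIso c⟩

theorem isExtPow_restrict {S X Z : Scheme.{u}} (v : Z ⟶ X) [IsOpenImmersion v] (f : X ⟶ S) (g : Z ⟶ S) [QuasiSeparated f] [QuasiSeparated g] (hg : v ≫ f = g)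
    (hΩ : FlatMod.IsFinLocFreeOfRank 2 (Omega.sheaf f)) {W : X.Modules} (hW : ExtPow.IsExtPow 2 (Omega.sheaf f) W) :
    ExtPow.IsExtPow 2 (Omega.sheaf g) ((Scheme.Modules.pullback v).obj W) := by
  obtain ⟨e⟩ := omega_restrict v f g hg
  exact AbCohLib.isExtPow_congr e (Canon15.isExtPow_pullback v hΩ hW)

variable (k : Type u) [Field k] [IsAlgClosed k] {X X' : Scheme.{u}} [X.Over (Spec (CommRingCat.of k))]
  [X'.Over (Spec (CommRingCat.of k))] [IsIntegral X] [IsProper (X ↘ Spec (CommRingCat.of k))]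
  [IsProper (X' ↘ Spec (CommRingCat.of k))]

theorem B_pullback {π : X' ⟶ X} (hπk : π ≫ (X ↘ Spec (CommRingCat.of k)) = X' ↘ Spec (CommRingCat.of k))
    {Z : Closeds X} [IsLocallyNoetherian X] (h : SurfBl13.Points Z)
    (hb : BlowUp.IsBlowUp π (Scheme.IdealSheafData.vanishingIdeal Z))
    (hX : topologicalKrullDim X ≤ ((2 : ℕ) : WithBot ℕ∞)) (hX' : topologicalKrullDim X' ≤ ((2 : ℕ) : WithBot ℕ∞))
    {L M : X.Modules} (hL : PicF.IsInvertible L) (hM : PicF.IsInvertible M) :
    B k (X := X') (InvCl.mk _ (PicLoc.isInvertible_pullback π hL)) (InvCl.mk _ (PicLoc.isInvertible_pullback π hM)) =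
      B k (InvCl.mk L hL) (InvCl.mk M hM) := by
  obtain ⟨e⟩ := exists_pullTensorIso π hL hM
  obtain ⟨e₁⟩ := exists_pullStructureIso π
  have key : ∀ {N : X.Modules} (hN : PicF.IsInvertible N),
      chiCl k (Coh.structureModule X') (InvCl.mk _ (PicLoc.isInvertible_pullback π hN)) =
        chiCl k (Coh.structureModule X) (InvCl.mk N hN) := fun {N} hN => by
    rw [← euler_eq_chiCl k hX', ← euler_eq_chiCl k hX]
    exact (SurfBl13.euler_pullback π k hπk h hb hN).2
  have h1 : (1 : InvCl X') = InvCl.mk _ (PicLoc.isInvertible_pullback π isInvertible_structureModule) :=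
    InvCl.mk_eq _ _ e₁.symm
  rw [B, B, InvCl.mk_mul, InvCl.mk_mul, InvCl.mk_eq _ (PicLoc.isInvertible_pullback π (isInvertible_tensorMod hL hM)) e.symm,
    key, key, key, h1, key]
  rfl

theorem canonical_blowUp_point (hX : topologicalKrullDim X = ((2 : ℕ) : WithBot ℕ∞))
    (hX' : topologicalKrullDim X' = ((2 : ℕ) : WithBot ℕ∞)) [IsIntegral X']
    [Smooth (X ↘ Spec (CommRingCat.of k))] [Smooth (X' ↘ Spec (CommRingCat.of k))]
    (hreg : ∀ x : X, IsRegularLocalRing (X.presheaf.stalk x))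
    (P : X) (hP : IsClosed ({P} : Set X)) (π : X' ⟶ X)
    (hπk : π ≫ (X ↘ Spec (CommRingCat.of k)) = X' ↘ Spec (CommRingCat.of k))
    (hπ : BlowUp.IsBlowUp π (Scheme.IdealSheafData.vanishingIdeal ⟨{P}, hP⟩))
    {W : X.Modules} (hW : ExtPow.IsExtPow 2 (Omega.sheaf (X ↘ Spec (CommRingCat.of k))) W)
    {W' : X'.Modules} (hW' : ExtPow.IsExtPow 2 (Omega.sheaf (X' ↘ Spec (CommRingCat.of k))) W') :
    Nonempty (CohB1.tensorMod W' (ClSub.idealMod (BlowUp.exceptional π (Scheme.IdealSheafData.vanishingIdeal ⟨{P}, hP⟩))) ≅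
        (Scheme.Modules.pullback π).obj W) ∧
      FGA.intNum k X' 2 ![W', W'] (Coh.structureModule X') = FGA.intNum k X 2 ![W, W] (Coh.structureModule X) - 1 := by
  haveI := isNoetherian_of_proper (X := X) k
  haveI := isNoetherian_of_proper (X := X') k
  haveI := isSeparated_of_proper (X := X) k
  haveI := isSeparated_of_proper (X := X') k
  haveI : SmoothOfRelativeDimension 2 (X ↘ Spec (CommRingCat.of k)) := GenSmoothLib.smoothOfRelativeDimension_toField _ hX
  haveI : SmoothOfRelativeDimension 2 (X' ↘ Spec (CommRingCat.of k)) := GenSmoothLib.smoothOfRelativeDimension_toField _ hX'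
  obtain ⟨hPr, hPd⟩ := SurfBl13.regular_of_surface k (X ↘ Spec (CommRingCat.of k)) P hP
  let Z : Closeds X := ⟨{P}, hP⟩
  let I₀ := Scheme.IdealSheafData.vanishingIdeal Z
  let i := I₀.subschemeι
  have hker : i.ker = I₀ := Scheme.IdealSheafData.ker_subschemeι I₀
  have hpts : SurfBl13.Points Z := fun z hz => by
    obtain rfl : z = P := hz
    exact ⟨hP, by simp [Z], hPr, hPd⟩
  -- the point as a regular subvariety
  have hrange : Set.range i.base = {P} := by
    rw [Scheme.IdealSheafData.range_subschemeι]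
    exact Scheme.IdealSheafData.coe_support_vanishingIdeal Z
  haveI : IsReduced I₀.subscheme := Props12.isReduced_subscheme_vanishingIdeal Z
  haveI hsub : Subsingleton I₀.subscheme := ⟨fun a b => i.isClosedEmbedding.injective
    ((Set.mem_singleton_iff.1 (hrange.le ⟨a, rfl⟩)).trans (Set.mem_singleton_iff.1 (hrange.le ⟨b, rfl⟩)).symm)⟩
  haveI : IrreducibleSpace I₀.subscheme :=
    { isPreirreducible_univ := Set.subsingleton_univ.isPreirreducible
      toNonempty := ⟨(hrange.ge rfl).choose⟩ }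
  haveI : IsIntegral I₀.subscheme := isIntegral_of_irreducibleSpace_of_isReduced _
  haveI : IsLocallyNoetherian I₀.subscheme := LocallyOfFiniteType.isLocallyNoetherian i
  have hZ : ∀ w : I₀.subscheme, IsRegularLocalRing (I₀.subscheme.presheaf.stalk w) := by
    intro w
    rw [hsub.elim w (genericPoint I₀.subscheme)]
    exact inferInstanceAs (IsRegularLocalRing I₀.subscheme.functionField)
  haveI : DiscreteTopology I₀.subscheme := inferInstance
  obtain ⟨M, hMi, hM⟩ := ExcC13.exists_inverse (BlowUp.exceptional π I₀) hπ.1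
  obtain ⟨hI, hMi', -, -, hcl⟩ := pic_blowUp (X ↘ Spec (CommRingCat.of k)) hreg i hZ 2 0 2 hX
    (le_antisymm (topologicalKrullDim_zero_of_discreteTopology I₀.subscheme) (@Order.krullDim_nonneg _ _ ⟨⟨Set.univ, IrreducibleSpace.isIrreducible_univ _, isClosed_univ⟩⟩)) rfl le_rfl π (hker.symm ▸ hπ) M (hker.symm ▸ hM)
  -- the canonical classes agree off the point
  have hΩ := Canon15.isFinLocFreeOfRank_omega (X ↘ Spec (CommRingCat.of k)) 2
  have hΩ' := Canon15.isFinLocFreeOfRank_omega (X' ↘ Spec (CommRingCat.of k)) 2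
  have hWi := isInvertible_canonical k hX hW
  have hWi' := isInvertible_canonical k hX' hW'
  let V := SDiv28.offCenter π i.ker
  haveI : IsOpenImmersion (V.ι ≫ π) := SDiv28.isOpenImmersion_offCenter (hker.symm ▸ hπ)
  have hVeq : PicM.pull V.ι (PicM.pull π (PicM.of hWi)) = PicM.pull V.ι (PicM.of hWi') := by
    rw [PicM.pull_pull, PicM.pull_of, PicM.pull_of, PicM.of_eq_iff]
    exact KvbLam28.exists_iso_of_isExtPow
      (isExtPow_restrict (V.ι ≫ π) _ (V.ι ≫ (X' ↘ Spec (CommRingCat.of k))) (by rw [Category.assoc, hπk]) hΩ hW)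
      (isExtPow_restrict V.ι _ _ rfl hΩ' hW')
  obtain ⟨W₂, ⟨e₂⟩⟩ := VarietyLib.exists_isInverseOf hWi
  have hW₂ : PicF.IsInvertible W₂ :=
    PicM.isInvertible_of_tensor hWi (glocus_isInvertible_of_iso e₂.symm isInvertible_structureModule)
  have hWW : PicM.of hWi * PicM.of hW₂ = 1 := by
    rw [PicM.of_mul, PicM.of_eq_one_iff]; exact ⟨e₂⟩
  obtain ⟨n, hn⟩ := hcl (PicM.of hWi' * PicM.pull π (PicM.of hW₂)) (by
    rw [map_mul, ← hVeq, ← map_mul, ← map_mul, hWW, map_one, map_one])
  have hmul : ∀ {N : X'.Modules} (hN : PicF.IsInvertible N) (n : ℕ),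
      PicM.of hWi' * PicM.pull π (PicM.of hW₂) = PicM.of hN ^ n →
      InvCl.mk W' hWi' = InvCl.mk _ (PicLoc.isInvertible_pullback π hWi) * InvCl.mk N hN ^ n := fun {N} hN n h => by
    have h1 : PicM.of hWi' = PicM.pull π (PicM.of hWi) * PicM.of hN ^ n := by
      rw [← h, mul_left_comm, ← map_mul, hWW, map_one, mul_one]
    rw [PicM.pull_of, ← PicM.of_tensorPow, PicM.of_mul, PicM.of_eq_iff] at h1
    obtain ⟨e⟩ := h1
    rw [← InvCl.mk_tensorPow hN n, InvCl.mk_mul]
    exact InvCl.mk_eq _ _ e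
  -- numbers on the exceptional line
  obtain ⟨E, ι, hι, hExc, -, -, hιker⟩ := Resolve13.exists_excCurve_point P hP hPd π hπ
  haveI := hι
  obtain ⟨-, K, _, e₀, φ₀⟩ := id hExc
  let J := BlowUp.exceptional π I₀
  have hDc : BlowUp.IsEffCartierIdeal J := hπ.1
  haveI : IsIso ι.toImage := inferInstance
  have key : ∃ e : CohB1.ProjSpace 1 K ≅ J.subscheme,
      Models7.P1Deg.HasDeg e ((Scheme.Modules.pullback J.subschemeι).obj (ClSub.idealMod J)) (1 : ℤ) := by
    rw [show J = ι.ker from hιker.symm]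
    refine ⟨e₀ ≪≫ asIso ι.toImage, ?_⟩
    exact ⟨(Scheme.Modules.pullbackComp (e₀ ≪≫ asIso ι.toImage).hom ι.ker.subschemeι).app _ ≪≫
      (Scheme.Modules.pullbackCongr (show (e₀ ≪≫ asIso ι.toImage).hom ≫ ι.ker.subschemeι = e₀.hom ≫ ι by
        show (e₀.hom ≫ ι.toImage) ≫ _ = _
        rw [Category.assoc]; exact congrArg _ ι.toImage_imageι)).app _ ≪≫ φ₀.some⟩
  obtain ⟨e, hdeg⟩ := key
  let f' := X' ↘ Spec (CommRingCat.of k)
  let C := J.subscheme
  letI : C.Over (Spec (CommRingCat.of k)) := ⟨J.subschemeι ≫ f'⟩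
  haveI : IsProper (C ↘ Spec (CommRingCat.of k)) := inferInstanceAs (IsProper (J.subschemeι ≫ f'))
  haveI := isNoetherian_of_proper (X := C) k
  haveI := isSeparated_of_proper (X := C) k
  have htr : ∀ {N : X'.Modules} (hN : PicF.IsInvertible N),
      Curv2.euler k C ((Scheme.Modules.pullback J.subschemeι).obj N) - Curv2.euler k C (Coh.structureModule C) =
        - B k (clI' J hDc) (InvCl.mk N hN) := fun {N} hN => by
    rw [← deg_quotMod k hDc, Surf15.deg_mk]
    obtain ⟨ee⟩ := exists_restrict_iso J hN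
    haveI := isQCoh_of_isInvertible (PicLoc.isInvertible_pullback J.subschemeι hN)
    haveI : Coh.IsQCoh (Coh.structureModule C) := isQCoh_structureModule
    rw [euler_congr k X' ee, ← AbCubeLib.euler_push k J.subschemeι rfl _,
      ← AbCubeLib.euler_push k J.subschemeι rfl (Coh.structureModule C)]
  have hJi := FlatMor12.IdealModGen.isInvertible_idealMod J hDc
  have hO1 : Curv2.euler k C (Coh.structureModule C) = 1 :=
    (SurfBl13.euler_line k e isInvertible_structureModule (Models7.P1Deg.hasDeg_structure e)).trans (by norm_num)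
  have hII : B k (clI' J hDc) (InvCl.mk _ hJi) = -1 := by
    have h := htr hJi
    rw [SurfBl13.euler_line k e (PicLoc.isInvertible_pullback _ hJi) hdeg, hO1] at h
    linarith
  have hIW : B k (clI' J hDc) (InvCl.mk _ (PicLoc.isInvertible_pullback π hWi)) = 0 := by
    haveI : Nonempty (I₀.comap π).subscheme := by
      exact ⟨e.hom (Classical.arbitrary _)⟩
    have h1 := SurfBl13.pull_fibre_eq_one π hP (PicM.of hWi)
    rw [PicM.pull_of, PicM.pull_of, PicM.of_eq_one_iff] at h1
    have h2 : Nonempty ((Scheme.Modules.pullback J.subschemeι).obj ((Scheme.Modules.pullback π).obj W) ≅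
        Coh.structureModule J.subscheme) := h1
    obtain ⟨ee⟩ := h2
    have h := htr (PicLoc.isInvertible_pullback π hWi)
    rw [euler_congr k C ee] at h
    linarith
  have hq : Curv2.euler k X' (ClSub.quotMod J) = 1 := by
    obtain ⟨ee⟩ := nonempty_push_iso_quotMod J.subschemeι
    haveI : Coh.IsQCoh (Coh.structureModule C) := isQCoh_structureModule
    have h := (AbCubeLib.euler_push k J.subschemeι rfl (Coh.structureModule C)).trans (euler_congr k X' ee)
    rw [J.ker_subschemeι, hO1] at h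
    exact h.symm
  have hadj := two_euler_quotMod k hX' hW' hWi' hDc
  rw [hq, intNum_eq_B k hX'.le hJi hWi', intNum_eq_B k hX'.le hJi hJi] at hadj
  change _ = B k (clI' J hDc) _ - B k (clI' J hDc) _ at hadj
  rw [hII] at hadj
  have hMJ : InvCl.mk M hMi' * clI' J hDc = 1 := by
    obtain ⟨t⟩ := hM
    exact InvCl.mk_eq _ _ t
  rcases hn with hn | hn
  · exfalso
    have h := hmul hI n hn
    have h' : InvCl.mk W' hWi' = InvCl.mk _ (PicLoc.isInvertible_pullback π hWi) * clI' J hDc ^ n := by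
      rw [h]
      exact congrArg (fun x => InvCl.mk _ (PicLoc.isInvertible_pullback π hWi) * x ^ n) (InvCl.mk_eq _ _ (eqToIso (by rw [hker])))
    rw [h', B_mul_right k hX'.le, hIW, B_pow_right k hX'.le] at hadj
    change 2 * (1 : ℤ) = 0 + (n : ℤ) * B k (clI' J hDc) (InvCl.mk _ hJi) - -1 at hadj
    rw [hII] at hadj
    omega
  · have h := hmul hMi' n hn
    rw [h, B_mul_right k hX'.le, hIW, B_pow_right k hX'.le, B_inv_right k hX'.le (show clI' J hDc * InvCl.mk M hMi' = 1 by rw [mul_comm]; exact hMJ)] at hadj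
    change 2 * (1 : ℤ) = 0 + (n : ℤ) * - B k (clI' J hDc) (InvCl.mk _ hJi) - -1 at hadj
    rw [hII] at hadj
    obtain rfl : n = 1 := by omega
    rw [pow_one] at h
    refine ⟨?_, ?_⟩
    · have h1 : InvCl.mk W' hWi' * clI' J hDc = InvCl.mk _ (PicLoc.isInvertible_pullback π hWi) := by
        rw [h, mul_assoc, hMJ, mul_one]
      exact Quotient.exact h1
    · have hJM : clI' J hDc * InvCl.mk M hMi' = 1 := by rw [mul_comm]; exact hMJ
      have hmm : B k (InvCl.mk M hMi') (InvCl.mk M hMi') = -1 := by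
        rw [B_inv_inv k hX'.le hJM hJM]; exact hII
      have ham : B k (InvCl.mk _ (PicLoc.isInvertible_pullback π hWi)) (InvCl.mk M hMi') = 0 := by
        rw [B_inv_right k hX'.le hJM, B_comm k, hIW, neg_zero]
      rw [intNum_eq_B k hX'.le hWi' hWi', intNum_eq_B k hX.le hWi hWi, h, B_mul_left k hX'.le,
        B_mul_right k hX'.le, B_mul_right k hX'.le, B_pullback k hπk hpts hπ hX.le hX'.le hWi hWi,
        B_comm k (InvCl.mk M hMi') (InvCl.mk _ (PicLoc.isInvertible_pullback π hWi)), ham, hmm]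
      ring

end Groth.Agent.PicBlowUp13
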