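import Groth.Agent.BlowUpKoszul.StalkApps
import Groth.Agent.SDiv28.Charts

/-! The exceptional divisor in one chart of a blow-up in a regular ideal with integral zero locus. -/

set_option autoImplicit false
set_option linter.style.haveILetI false
set_option maxHeartbeats 1000000
set_option maxSynthPendingDepth 3
set_option synthInstance.maxHeartbeats 100000
set_option backward.isDefEq.respectTransparency false

universe u

open MvPolynomial AlgebraicGeometry CategoryTheory TopologicalSpace
open Groth.Agent.CAlgH.KoszulRegular Groth.Agent.BlowUpKoszul Groth.Agent.BlowUpLib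

namespace Groth.Agent.PicBlowUp13

/-- The reduction of a chart modulo the exceptional equation, with its values. -/
theorem exists_chart_quotient' {A : Type u} [CommRing A] {I : Ideal A} {m : ℕ} (f : Fin (m + 1) → A)
    (k : Fin (m + 1)) (hf : KReg f) (hI : I = Ideal.span (Set.range f)) :
    ∃ χ : (CR I (f k)) →+* MvPolynomial (Fin m) (A ⧸ I), Function.Surjective χ ∧
      RingHom.ker χ = Ideal.span {algebraMap A (CR I (f k)) (f k)} ∧
      (∀ a : A, χ (algebraMap A (CR I (f k)) a) = MvPolynomial.C (Ideal.Quotient.mk I a)) ∧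
      ∀ (j : Fin m) (c : CR I (f k)), c * algebraMap A (CR I (f k)) (f k) =
        algebraMap A (CR I (f k)) (f (k.succAbove j)) → χ c = X j := by
  let φ : MvPolynomial (Fin m) A →ₐ[A] (CR I (f k)) :=
    (aeval (R := A) (ratio f k)).codRestrict _ fun r => by
      rw [← range_aeval_ratio f k hI]; exact ⟨r, rfl⟩
  have hφ : Function.Surjective φ := fun ⟨z, hz⟩ => by
    rw [← range_aeval_ratio f k hI] at hz
    obtain ⟨r, hr⟩ := hz
    exact ⟨r, Subtype.ext hr⟩
  have hker : RingHom.ker φ.toRingHom = Ideal.span (Set.range (rel f k)) := by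
    rw [← ker_aeval_ratio f k hf]
    ext r
    simp [φ, RingHom.mem_ker, Subtype.ext_iff]
  let g : MvPolynomial (Fin m) A →+* MvPolynomial (Fin m) (A ⧸ I) := MvPolynomial.map (Ideal.Quotient.mk I)
  have hfI : ∀ i, Ideal.Quotient.mk I (f i) = 0 := fun i =>
    Ideal.Quotient.eq_zero_iff_mem.2 (hI ▸ Ideal.subset_span ⟨i, rfl⟩)
  have hg : RingHom.ker φ.toRingHom ≤ RingHom.ker g := by
    rw [hker, Ideal.span_le]
    rintro _ ⟨j, rfl⟩
    simp [g, rel, hfI]
  let χ := φ.toRingHom.liftOfSurjective hφ ⟨g, hg⟩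
  have hχ : ∀ p, χ (φ p) = g p := fun p => φ.toRingHom.liftOfRightInverse_comp_apply _ _ ⟨g, hg⟩ p
  refine ⟨χ, fun z => ?_, le_antisymm (fun b hb => ?_) ?_, fun a => ?_, fun j c hc => ?_⟩
  · obtain ⟨p, hp⟩ := MvPolynomial.map_surjective (σ := Fin m) _ Ideal.Quotient.mk_surjective z
    exact ⟨φ p, (hχ p).trans hp⟩
  · obtain ⟨p, rfl⟩ := hφ b
    have hp : p ∈ RingHom.ker g := by rw [RingHom.mem_ker, ← hχ]; exact hb
    rw [show RingHom.ker g = _ from MvPolynomial.ker_map _, Ideal.mk_ker, hI, Ideal.map_span] at hp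
    have h := Ideal.mem_map_of_mem φ.toRingHom hp
    rw [Ideal.map_span] at h
    refine Ideal.span_le.2 ?_ h
    rintro _ ⟨_, ⟨_, ⟨i, rfl⟩, rfl⟩, rfl⟩
    rw [SetLike.mem_coe, AlgHom.toRingHom_eq_coe, RingHom.coe_coe, ← algebraMap_eq, AlgHom.commutes,
      Ideal.mem_span_singleton']
    rcases Fin.eq_self_or_eq_succAbove k i with rfl | ⟨j, rfl⟩
    · exact ⟨1, one_mul _⟩
    · refine ⟨φ (X j), Subtype.ext ?_⟩
      show (φ (X j) : Localization.Away (f k)) * algebraMap A _ (f k) = algebraMap A _ (f (k.succAbove j))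
      rw [← algebraMap_mul_ratio, mul_comm]
      simp [φ]
  · rw [Ideal.span_singleton_le_iff_mem, RingHom.mem_ker, ← φ.commutes, hχ]
    simp [g, hfI]
  · rw [← φ.commutes, hχ]
    simp [g]
  · have : c = φ (X j) := by
      refine sub_eq_zero.1 (isSMulRegular_chart (f k) _ ?_)
      rw [mul_comm, sub_mul, hc, sub_eq_zero]
      refine Subtype.ext ?_
      show algebraMap A _ (f (k.succAbove j)) = (φ (X j) : Localization.Away (f k)) * algebraMap A _ (f k)
      rw [← algebraMap_mul_ratio, mul_comm]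
      simp [φ]
    rw [this, hχ]
    simp [g]

variable {X X' : Scheme.{u}} {J : X.IdealSheafData} {b : X' ⟶ X}

theorem mem_support_chart_iff (U : X.affineOpens) {a : Γ(X, U.1)} (ha : a ∈ J.ideal U) (y : chart J U a) :
    chartMap J U a y ∈ J.support ↔ algebraMap Γ(X, U.1) (ChartRing J U a) a ∈ y.asIdeal := by
  obtain ⟨⟨e, hid⟩, -⟩ := generates_chartMap (I := J) ha
  have h1 : chartMap J U a y ∈ J.support ↔ y ∈ (J.comap (chartMap J U a)).support := by
    rw [Scheme.IdealSheafData.support_comap]; rfl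
  rw [h1, Scheme.IdealSheafData.mem_support_iff_of_mem (U := ⟨⊤, isAffineOpen_top _⟩) (trivial : y ∈ _), hid,
    Scheme.zeroLocus_span, Scheme.mem_zeroLocus_iff]
  have happ : (chartMap J U a).appLE U.1 ⊤ e a = (Scheme.ΓSpecIso (CommRingCat.of (ChartRing J U a))).inv
      (algebraMap Γ(X, U.1) (ChartRing J U a) a) := by
    have h := (fromSpec_comp_appLE (Spec.map (CommRingCat.ofHom (algebraMap Γ(X, U.1) (ChartRing J U a)))) e).trans
      (Scheme.ΓSpecIso_inv_naturality _).symm
    exact congrArg (fun ψ => ψ.hom a) h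
  have hb : (chart J U a).basicOpen ((Scheme.ΓSpecIso (CommRingCat.of (ChartRing J U a))).inv
      (algebraMap Γ(X, U.1) (ChartRing J U a) a)) = PrimeSpectrum.basicOpen (algebraMap Γ(X, U.1) (ChartRing J U a) a) :=
    basicOpen_eq_of_affine (R := CommRingCat.of (ChartRing J U a)) _
  constructor
  · intro h
    by_contra hn
    refine h _ rfl ?_
    rw [happ]
    exact hb.ge hn
  · intro hmem f hf
    obtain rfl := Set.mem_singleton_iff.1 hf
    rw [happ]
    exact fun hn => hb.le hn hmem

end Groth.Agent.PicBlowUp13
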