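import Groth.Agent.PicBlowUp13.Chart
import Groth.Agent.CAlgH3.RegularLocal
import Mathlib.RingTheory.DiscreteValuationRing.TFAE

/-! The generic point of the exceptional divisor. -/

set_option autoImplicit false
set_option linter.style.haveILetI false
set_option maxHeartbeats 1000000
set_option maxSynthPendingDepth 3
set_option synthInstance.maxHeartbeats 100000
set_option backward.isDefEq.respectTransparency false

universe u

open AlgebraicGeometry CategoryTheory TopologicalSpace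
open Groth.Agent.CAlgH.KoszulRegular Groth.Agent.BlowUpKoszul Groth.Agent.BlowUpLib

namespace Groth.Agent.PicBlowUp13

variable {X X' : Scheme.{u}} {J : X.IdealSheafData} {b : X' ⟶ X}

/-- The generic point of the exceptional divisor over one affine open, with its parameter. -/
theorem exists_generic_over (hb : BlowUp.IsBlowUp b J) (U : X.affineOpens) {m : ℕ}
    (F : Fin (m + 1) → Γ(X, U.1)) (hF : KReg F) (hJ : J.ideal U = Ideal.span (Set.range F))
    (hdom : IsDomain (Γ(X, U.1) ⧸ J.ideal U)) :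
    ∃ w : X', b w ∈ U.1 ∧ b w ∈ J.support ∧
      (∀ z : X', b z ∈ U.1 → b z ∈ J.support → w ⤳ z) ∧
      (∀ x : X, x ∈ U.1 → x ∈ J.support → b w ⤳ x) ∧
      ∃ (W : X'.affineOpens) (hw : w ∈ W.1) (t : Γ(X', W.1)), t ∈ nonZeroDivisors Γ(X', W.1) ∧
        (J.comap b).ideal W = Ideal.span {t} ∧
        IsLocalRing.maximalIdeal (X'.presheaf.stalk w) = Ideal.span {X'.presheaf.germ W.1 w hw t} := by
  have hFm : ∀ i, F i ∈ J.ideal U := fun i => hJ ▸ Ideal.subset_span ⟨i, rfl⟩
  choose χ hχs hχk hχC hχX using fun i => exists_chart_quotient' F i hF hJ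
  choose e he using fun i => SDiv28.exists_locus_iso hb U (hFm i)
  let g : ∀ i, chart J U (F i) ⟶ X' := fun i => (e i).inv ≫ (locus J b U (F i)).ι
  have hg : ∀ i, g i ≫ b = chartMap J U (F i) := fun i => by
    rw [Category.assoc, ← he, Iso.inv_hom_id_assoc]
  have hrange : ∀ i, Set.range (g i) = (locus J b U (F i) : Set X') := fun i => by
    refine Set.Subset.antisymm ?_ fun z hz => ⟨(e i).hom ⟨z, hz⟩, ?_⟩
    · rintro _ ⟨y, rfl⟩
      exact ((e i).inv y).2
    · show (locus J b U (F i)).ι ((e i).inv ((e i).hom ⟨z, hz⟩)) = z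
      rw [← Scheme.Hom.comp_apply (e i).hom (e i).inv, (e i).hom_inv_id]
      rfl
  have hcover : ∀ z : X', b z ∈ U.1 → ∃ (i : Fin (m + 1)) (y : chart J U (F i)), g i y = z := fun z hz => by
    obtain ⟨a, ⟨i, rfl⟩, hmem⟩ := exists_mem_locus b hb.1 U (show z ∈ b ⁻¹ᵁ U.1 from hz) (Set.range F) hJ.symm
    exact ⟨i, (hrange i).ge hmem⟩
  have hp : ∀ i, (RingHom.ker (χ i)).IsPrime := fun i => by
    haveI := hdom
    exact RingHom.ker_isPrime _
  let p : ∀ i, chart J U (F i) := fun i => ⟨RingHom.ker (χ i), hp i⟩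
  let wf : Fin (m + 1) → X' := fun i => g i (p i)
  have hbg : ∀ i (y : chart J U (F i)), b (g i y) = chartMap J U (F i) y := fun i y => by
    rw [← Scheme.Hom.comp_apply, hg]
  have hsupp : ∀ i (y : chart J U (F i)), b (g i y) ∈ J.support ↔ (χ i |> RingHom.ker) ≤ y.asIdeal := fun i y => by
    rw [hbg, mem_support_chart_iff U (hFm i) y, hχk, Ideal.span_singleton_le_iff_mem]
  have hgen : ∀ i (y : chart J U (F i)), b (g i y) ∈ J.support → wf i ⤳ g i y := fun i y hy =>
    Specializes.map ((PrimeSpectrum.le_iff_specializes (p i) y).1 ((hsupp i y).1 hy)) (g i).continuous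
  have hwU : ∀ i, b (wf i) ∈ U.1 := fun i => by
    rw [hbg]
    exact (generates_chartMap (I := J) (hFm i)).1.1 trivial
  have hwS : ∀ i, b (wf i) ∈ J.support := fun i => (hsupp i (p i)).2 le_rfl
  -- the generic point of one chart lies in every other chart
  have hmem : ∀ i j, wf i ∈ locus J b U (F j) := by
    intro i j
    rcases Fin.eq_self_or_eq_succAbove i j with rfl | ⟨j', rfl⟩
    · exact (hrange j).le ⟨p j, rfl⟩
    obtain ⟨⟨e₀, hid⟩, hc⟩ := generates_chartMap (I := J) (hFm i)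
    have h2 := preimage_locus (hFm (i.succAbove j')) b hb.1 (g i) (by rw [hg]; exact hc)
    rw [hg] at h2
    refine h2.ge ?_
    let c : ChartRing J U (F i) := frac (F (i.succAbove j')) (hFm _)
    have hcm : c * algebraMap Γ(X, U.1) (ChartRing J U (F i)) (F i) =
        algebraMap Γ(X, U.1) (ChartRing J U (F i)) (F (i.succAbove j')) := frac_mul _ _
    have hc0 : c ∉ RingHom.ker (χ i) := by
      haveI := hdom
      rw [RingHom.mem_ker, hχX i j' c hcm]
      exact MvPolynomial.X_ne_zero j'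
    let s := (Scheme.ΓSpecIso (CommRingCat.of (ChartRing J U (F i)))).inv c
    have happ : ∀ a, (chartMap J U (F i)).appLE U.1 ⊤ e₀ a =
        (Scheme.ΓSpecIso (CommRingCat.of (ChartRing J U (F i)))).inv (algebraMap Γ(X, U.1) _ a) := fun a => by
      have h := (fromSpec_comp_appLE (Spec.map (CommRingCat.ofHom (algebraMap Γ(X, U.1) (ChartRing J U (F i))))) e₀).trans
        (Scheme.ΓSpecIso_inv_naturality _).symm
      exact congrArg (fun ψ => ψ.hom a) h
    have hmem' : p i ∈ (chart J U (F i)).basicOpen s :=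
      (basicOpen_eq_of_affine (R := CommRingCat.of (ChartRing J U (F i))) c).ge hc0
    refine mem_locus.2 ⟨(chart J U (F i)).affineBasicOpen (U := ⟨⊤, isAffineOpen_top _⟩) s, hmem', ?_⟩
    refine generates_of_isUnit (V := ⟨⊤, isAffineOpen_top _⟩)
      (V' := (chart J U (F i)).affineBasicOpen (U := ⟨⊤, isAffineOpen_top _⟩) s)
      ((chart J U (F i)).basicOpen_le s) e₀ hid (c := s) ?_
      (RingedSpace.isUnit_res_basicOpen (chart J U (F i)).toRingedSpace s)
    rw [happ, happ, ← hcm, map_mul]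
  have heq : ∀ i j, wf i = wf j := by
    intro i j
    obtain ⟨y, hy⟩ := (hrange j).ge (hmem i j)
    obtain ⟨y', hy'⟩ := (hrange i).ge (hmem j i)
    exact Specializes.antisymm (hy' ▸ hgen i y' (hy'.symm ▸ hwS j)) (hy ▸ hgen j y (hy.symm ▸ hwS i)) |>.eq
  refine ⟨wf 0, hwU 0, hwS 0, fun z hz hzs => ?_, fun x hx hxs => ?_, ?_⟩
  · obtain ⟨i, y, rfl⟩ := hcover z hz
    rw [heq 0 i]
    exact hgen i y hzs
  · -- the image is the generic point of the centre over `U`
    obtain ⟨q, rfl⟩ := U.2.range_fromSpec.ge hx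
    have hq : J.ideal U ≤ q.asIdeal := by
      intro a ha
      by_contra hn
      have hxs' := (Scheme.IdealSheafData.mem_support_iff_of_mem (I := J) (U := U)
        (U.2.range_fromSpec.le ⟨q, rfl⟩)).1 hxs
      rw [Scheme.mem_zeroLocus_iff] at hxs'
      refine hxs' a ha ?_
      show q ∈ U.2.fromSpec ⁻¹ᵁ X.basicOpen a
      rw [U.2.fromSpec_preimage_basicOpen]
      exact hn
    have hwb : b (wf 0) = U.2.fromSpec ⟨(RingHom.ker (χ 0)).comap (algebraMap _ _), Ideal.comap_isPrime _ _⟩ := by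
      rw [hbg]; rfl
    rw [hwb]
    refine Specializes.map ((PrimeSpectrum.le_iff_specializes _ q).1 fun a ha => hq ?_) U.2.fromSpec.continuous
    rw [Ideal.mem_comap, RingHom.mem_ker, hχC, MvPolynomial.C_eq_zero, Ideal.Quotient.eq_zero_iff_mem] at ha
    exact ha
  · obtain ⟨W, hwW, hW⟩ := mem_locus.1 ((hrange 0).le ⟨p 0, rfl⟩)
    obtain ⟨eW, hid⟩ := hW
    refine ⟨W, hwW, _, mem_nonZeroDivisors_of_eff hb.1 hid, hid, ?_⟩
    obtain ⟨⟨e₀, -⟩, -⟩ := generates_chartMap (I := J) (hFm 0)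
    haveI : IsIso ((g 0).stalkMap (p 0)) := inferInstance
    let R := CommRingCat.of (ChartRing J U (F 0))
    let γ : X'.presheaf.stalk (wf 0) ≃+* (Spec R).presheaf.stalk (p 0) :=
      (asIso ((g 0).stalkMap (p 0))).commRingCatIsoToRingEquiv
    let σ : (Spec R).presheaf.stalk (p 0) ≃+* Localization.AtPrime (p 0).asIdeal :=
      (Spec.stalkIso R (p 0)).commRingCatIsoToRingEquiv
    let δ := γ.trans σ
    have hδ : δ (X'.presheaf.germ W.1 (wf 0) hwW ((b.appLE U.1 W.1 eW).hom (F 0))) =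
        algebraMap R (Localization.AtPrime (p 0).asIdeal) (algebraMap Γ(X, U.1) (ChartRing J U (F 0)) (F 0)) := by
      show σ ((g 0).stalkMap (p 0) (X'.presheaf.germ W.1 _ hwW _)) = _
      rw [Scheme.Hom.germ_stalkMap_apply]
      have key : (Spec R).presheaf.germ _ (p 0) hwW ((g 0).app W.1 ((b.appLE U.1 W.1 eW).hom (F 0))) =
          (Spec R).presheaf.germ ⊤ (p 0) trivial ((chartMap J U (F 0)).appLE U.1 ⊤ e₀ (F 0)) := by
        have hle : (g 0) ⁻¹ᵁ W.1 ≤ chartMap J U (F 0) ⁻¹ᵁ U.1 := le_top.trans e₀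
        have h1 : (g 0).app W.1 ((b.appLE U.1 W.1 eW).hom (F 0)) =
            ((g 0 ≫ b).appLE U.1 ((g 0) ⁻¹ᵁ W.1) ((g 0).preimage_mono eW)) (F 0) := by
          rw [← Scheme.Hom.appLE_comp_appLE (g 0) b U.1 W.1 _ eW le_rfl, Scheme.Hom.app_eq_appLE]
          rfl
        rw [h1]
        have h2 : ∀ (f : Spec R ⟶ X) (hf : f = chartMap J U (F 0)) (hle' : (g 0) ⁻¹ᵁ W.1 ≤ f ⁻¹ᵁ U.1),
            (Spec R).presheaf.germ _ (p 0) hwW (f.appLE U.1 _ hle' (F 0)) =
              (Spec R).presheaf.germ ⊤ (p 0) trivial ((chartMap J U (F 0)).appLE U.1 ⊤ e₀ (F 0)) := by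
          rintro _ rfl hle'
          rw [← (chartMap J U (F 0)).appLE_map e₀ (homOfLE (le_top : (g 0) ⁻¹ᵁ W.1 ≤ ⊤)).op, CommRingCat.comp_apply]
          exact TopCat.Presheaf.germ_res_apply (Spec R).presheaf (homOfLE le_top) (p 0) hwW _
        exact h2 _ (hg 0) _
      rw [key]
      have h := (fromSpec_comp_appLE (Spec.map (CommRingCat.ofHom (algebraMap Γ(X, U.1) (ChartRing J U (F 0))))) e₀).trans
        (Scheme.ΓSpecIso_inv_naturality _).symm
      rw [show (chartMap J U (F 0)).appLE U.1 ⊤ e₀ (F 0) = (Scheme.ΓSpecIso R).inv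
        (algebraMap Γ(X, U.1) (ChartRing J U (F 0)) (F 0)) from congrArg (fun ψ => ψ.hom (F 0)) h]
      have h3 := Spec.germ_stalkMapIso_hom (R := R) (x := p 0)
      exact (congrArg (fun ψ => ψ.hom ((Scheme.ΓSpecIso R).inv (algebraMap Γ(X, U.1) (ChartRing J U (F 0)) (F 0)))) h3).trans
        (congrArg (algebraMap R _) (Iso.inv_hom_id_apply (Scheme.ΓSpecIso R) _))
    refine SetLike.ext fun x => ?_
    have hmax : IsLocalRing.maximalIdeal (Localization.AtPrime (p 0).asIdeal) =
        Ideal.span {algebraMap R _ (algebraMap Γ(X, U.1) (ChartRing J U (F 0)) (F 0))} := by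
      rw [← Localization.AtPrime.map_eq_maximalIdeal]
      refine (congrArg (Ideal.map (algebraMap R (Localization.AtPrime (p 0).asIdeal))) (hχk 0)).trans ?_
      rw [Ideal.map_span, Set.image_singleton]
    rw [IsLocalRing.mem_maximalIdeal, mem_nonunits_iff, ← MulEquiv.isUnit_map δ, ← mem_nonunits_iff,
      ← IsLocalRing.mem_maximalIdeal, hmax, Ideal.mem_span_singleton, Ideal.mem_span_singleton, ← hδ,
      map_dvd_iff δ]
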