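import Groth.Agent.PicBlowUp13.Exc
import Groth.Agent.SDiv28.RegularImm
import Groth.Agent.CAlgH.KoszulH1

/-! The generic point of the exceptional divisor of the blow-up along a regular subvariety. -/

set_option autoImplicit false
set_option linter.style.haveILetI false
set_option maxHeartbeats 1000000
set_option maxSynthPendingDepth 3
set_option synthInstance.maxHeartbeats 100000
set_option backward.isDefEq.respectTransparency false

universe u

open AlgebraicGeometry CategoryTheory TopologicalSpace

namespace Groth.Agent.PicBlowUp13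

variable {X X' Y : Scheme.{u}}

theorem support_ker_eq_range (i : Y ⟶ X) [IsClosedImmersion i] :
    (i.ker.support : Set X) = Set.range i := by
  rw [Scheme.Hom.support_ker]
  exact i.isClosedEmbedding.isClosed_range.closure_eq

/-- A regular ideal chart around a point of a regular closed subvariety. -/
theorem exists_regular_chart [IsIntegral X] [IsLocallyNoetherian X]
    (hX : ∀ x : X, IsRegularLocalRing (X.presheaf.stalk x)) (i : Y ⟶ X) [IsClosedImmersion i] [IsIntegral Y]
    (hY : ∀ y : Y, IsRegularLocalRing (Y.presheaf.stalk y)) (hη : genericPoint X ∈ i.ker.support.compl) (y : Y) :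
    ∃ U : X.affineOpens, i y ∈ U.1 ∧ IsDomain (Γ(X, U.1) ⧸ i.ker.ideal U) ∧
      ∃ (m : ℕ) (F : Fin (m + 1) → Γ(X, U.1)), CAlgH.KoszulRegular.KReg F ∧
        i.ker.ideal U = Ideal.span (Set.range F) := by
  obtain ⟨U, hU, -, rs, hrs, hk⟩ := (SDiv28.RegImm.isRegularImmersion i hX hY).2 y
  have hI : i.ker.ideal U = Ideal.ofList rs := (Scheme.Hom.ker_apply i U).trans hk
  refine ⟨U, hU, ?_, ?_⟩
  · haveI : Nonempty (i ⁻¹ᵁ U.1 : Y.Opens) := ⟨⟨y, hU⟩⟩
    exact (((Ideal.quotEquivOfEq (Scheme.Hom.ker_apply i U)).trans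
      (RingHom.quotientKerEquivOfSurjective (i.app_surjective U.1 U.2)))).toMulEquiv.isDomain Γ(Y, i ⁻¹ᵁ U.1)
  cases hl : rs with
  | nil =>
    exfalso
    refine hη ?_
    have hηU : genericPoint X ∈ U.1 :=
      ((genericPoint_spec X).mem_open_set_iff U.1.isOpen).2 ⟨i y, trivial, hU⟩
    refine (Scheme.IdealSheafData.mem_support_iff_of_mem (I := i.ker) (U := U) hηU).2 ?_
    rw [hI, hl, Ideal.ofList_nil, Scheme.mem_zeroLocus_iff]
    intro f hf
    rw [show f = 0 from hf, Scheme.basicOpen_zero]
    exact id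
  | cons a l =>
    refine ⟨l.length, fun j => (a :: l).get j, CAlgH.KoszulH1.kreg_of_isWeaklyRegular ?_, ?_⟩
    · have h := (hl ▸ hrs.toIsWeaklyRegular : RingTheory.Sequence.IsWeaklyRegular Γ(X, U.1) (a :: l))
      exact (List.ofFn_get (a :: l)).symm ▸ h
    · rw [hI, hl]
      exact congrArg Ideal.span (Set.range_list_get _).symm

/-- The exceptional divisor has one generic point, with a local equation generating the maximal ideal there. -/
theorem exists_exceptional_generic [IsIntegral X] [IsLocallyNoetherian X]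
    (hX : ∀ x : X, IsRegularLocalRing (X.presheaf.stalk x)) (i : Y ⟶ X) [IsClosedImmersion i] [IsIntegral Y]
    (hY : ∀ y : Y, IsRegularLocalRing (Y.presheaf.stalk y)) (hη : genericPoint X ∈ i.ker.support.compl)
    {b : X' ⟶ X} (hb : BlowUp.IsBlowUp b i.ker) :
    ∃ w : X', b w = i (genericPoint Y) ∧ (∀ z : X', b z ∈ i.ker.support → w ⤳ z) ∧
      ∃ (W : X'.affineOpens) (hw : w ∈ W.1) (t : Γ(X', W.1)), t ∈ nonZeroDivisors Γ(X', W.1) ∧
        (i.ker.comap b).ideal W = Ideal.span {t} ∧
        IsLocalRing.maximalIdeal (X'.presheaf.stalk w) = Ideal.span {X'.presheaf.germ W.1 w hw t} := by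
  choose U hU hdom m F hF hJ using exists_regular_chart hX i hY hη
  choose w hwU hwS hwz hwx hW using fun y => exists_generic_over hb (U y) (F y) (hF y) (hJ y) (hdom y)
  have hs := support_ker_eq_range i
  have hξU : ∀ y, i (genericPoint Y) ∈ (U y).1 := fun y =>
    (genericPoint_specializes y).map i.continuous |>.mem_open (U y).1.isOpen (hU y)
  have hξS : i (genericPoint Y) ∈ i.ker.support := hs.ge ⟨_, rfl⟩
  have hbw : ∀ y, b (w y) = i (genericPoint Y) := fun y => by
    refine (Specializes.antisymm (hwx y _ (hξU y) hξS) ?_).eq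
    obtain ⟨y', hy'⟩ := hs.le (hwS y)
    exact hy' ▸ (genericPoint_specializes y').map i.continuous
  refine ⟨w (genericPoint Y), hbw _, fun z hz => ?_, hW _⟩
  obtain ⟨y, hy⟩ := hs.le hz
  refine (hwz _ _ ?_ (hwS y)).trans (hwz y z (hy ▸ hU y) hz)
  rw [hbw]
  exact hξU _

end Groth.Agent.PicBlowUp13
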