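import Groth.Agent.PicBlowUp13.Gen
import Groth.Agent.Models7.PointBlowUpIso
import Groth.Agent.Resolve13.CurveBlowUp
import Groth.Agent.PicNormal23.GenAt
import Groth.Agent.FlatMor12.MiracleScheme
import Groth.Agent.DimLib.Components

/-! Geometry of the blow-up of a regular scheme along a regular subvariety. -/

set_option autoImplicit false
set_option linter.style.haveILetI false
set_option maxHeartbeats 1000000
set_option maxSynthPendingDepth 3
set_option synthInstance.maxHeartbeats 100000
set_option backward.isDefEq.respectTransparency false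

universe u

open AlgebraicGeometry CategoryTheory TopologicalSpace Groth.Agent.PicNormal23

namespace Groth.Agent.PicBlowUp13

variable {X X' Y : Scheme.{u}}

theorem isRegular_blowUp [IsLocallyNoetherian X] (hX : ∀ x : X, IsRegularLocalRing (X.presheaf.stalk x))
    (i : Y ⟶ X) [IsClosedImmersion i] [IsIntegral Y] (hY : ∀ y : Y, IsRegularLocalRing (Y.presheaf.stalk y))
    {π : X' ⟶ X} (hπ : BlowUp.IsBlowUp π i.ker) (z : X') : IsRegularLocalRing (X'.presheaf.stalk z) := by
  haveI : IsLocallyNoetherian Y := LocallyOfFiniteType.isLocallyNoetherian i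
  have hJ : _root_.RegImm.IsRegularIdeal _root_.RegImm.Kind.regular i.ker := by
    intro x hx
    obtain ⟨w, rfl⟩ := (support_ker_eq_range i).le hx
    obtain ⟨U, hU, -, rs, hrs, hk⟩ := (SDiv28.RegImm.isRegularImmersion i hX hY).2 w
    exact ⟨U, hU, rs, hrs, (Scheme.Hom.ker_apply i U).trans hk⟩
  exact BlowUpKoszul.isRegularLocalRing_stalk_blowUp hX
    (fun U => BlowUpKoszul.isRegularRing_quotient_of_closedImmersion i hY U) hJ hπ z

theorem two_le_ringKrullDim {k : Type u} [Field k] (p : X ⟶ Spec (.of k)) [LocallyOfFiniteType p] [IsIntegral X]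
    (i : Y ⟶ X) [IsClosedImmersion i] (dX dY r : ℕ) (hdX : topologicalKrullDim X = dX)
    (hdY : topologicalKrullDim Y = dY) (hr : dY + r = dX) (h2 : 2 ≤ r) (y : Y) :
    (2 : WithBot ℕ∞) ≤ ringKrullDim (X.presheaf.stalk (i y)) := by
  have hgen : ∀ η : X, (∀ z, z ⤳ η → η = z) → DimLib.ptDim p η = dX := fun η hη => by
    rw [hη (genericPoint X) (genericPoint_specializes η)]
    have h := (DimLib.topologicalKrullDim_eq_ptDim_genericPoint p).symm.trans hdX
    exact_mod_cast h
  have hle : DimLib.ptDim p (i y) ≤ dY := by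
    have h : topologicalKrullDim (Set.range i) = dY :=
      (IsHomeomorph.topologicalKrullDim_eq _ i.isClosedEmbedding.isEmbedding.toHomeomorph.isHomeomorph).symm.trans hdY
    rw [DimLib.topologicalKrullDim_closed_eq_iSup p i.isClosedEmbedding.isClosed_range] at h
    have h' := (le_iSup (fun x : Set.range i => (DimLib.ptDim p x.1 : WithBot ℕ∞)) ⟨i y, y, rfl⟩).trans h.le
    exact_mod_cast h'
  rw [ringKrullDim_stalk_eq_coheight, (FlatMor12.coheight_add_ptDim p dX hgen (i y)).2]
  have : 2 ≤ dX - DimLib.ptDim p (i y) := by omega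
  exact WithBot.coe_le_coe.2 (by exact_mod_cast this : (2 : ℕ∞) ≤ ((dX - DimLib.ptDim p (i y) : ℕ) : ℕ∞))

/-- The local ring at a point of codimension one has dimension at most one. -/
theorem ringKrullDim_le_one [IsIntegral X] {v : X} (hv : IsPrimeDiv v) :
    ringKrullDim (X.presheaf.stalk v) ≤ 1 := by
  have h : Ring.KrullDimLE 1 (X.presheaf.stalk v) := Ring.krullDimLE_one_iff.2 fun q hq => by
    let qq : PrimeSpectrum (X.presheaf.stalk v) := ⟨q, hq⟩
    have hinj := (X.fromSpecStalk v).isEmbedding.injective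
    rcases hv.2 _ (X.range_fromSpecStalk.le ⟨qq, rfl⟩) with h1 | h1
    · right
      rw [show q = IsLocalRing.maximalIdeal _ from
        congrArg PrimeSpectrum.asIdeal (hinj (h1.trans Scheme.fromSpecStalk_closedPoint.symm) :
          qq = IsLocalRing.closedPoint _)]
      exact IsLocalRing.maximalIdeal.isMaximal _
    · left
      rw [show q = ⊥ from
        congrArg PrimeSpectrum.asIdeal (hinj (h1.trans (fromSpecStalk_bot v).symm) : qq = ⊥),
        IsDomain.minimalPrimes_eq_singleton_bot]
      rfl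
  exact (Order.krullDimLE_iff 1 _).1 h

/-- A unit off the centre is a unit at the generic point of the exceptional divisor. -/
theorem exists_unit_at [IsIntegral X] [IsLocallyNoetherian X] [IsIntegral X']
    (hX : ∀ x : X, IsRegularLocalRing (X.presheaf.stalk x))
    (i : Y ⟶ X) [IsClosedImmersion i] [IrreducibleSpace Y]
    (hdim : ∀ y : Y, (2 : WithBot ℕ∞) ≤ ringKrullDim (X.presheaf.stalk (i y)))
    {π : X' ⟶ X} (hπ : BlowUp.IsBlowUp π i.ker) {w : X'} (hw : π w = i (genericPoint Y))
    (hη : genericPoint X' ∈ SDiv28.offCenter π i.ker)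
    (a : Γ(X', SDiv28.offCenter π i.ker)) (ha : IsUnit a) :
    ∃ u : X'.presheaf.stalk w, IsUnit u ∧ toK w u = X'.presheaf.germ _ _ hη a := by
  let U : X.Opens := i.ker.support.compl
  haveI := SDiv28.isIso_off_center hπ
  haveI hiso : IsIso (π.app U) := by
    have h : IsIso ((π ∣_ U).app ⊤) := inferInstance
    rw [morphismRestrict_app] at h
    haveI := h
    have h2 : IsIso (π.app (U.ι ''ᵁ ⊤)) := IsIso.of_isIso_comp_right _
      (X'.presheaf.map (eqToHom (image_morphismRestrict_preimage π U ⊤)).op)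
    rwa [Scheme.Opens.ι_image_top] at h2
  obtain ⟨a₀, rfl⟩ := (ConcreteCategory.bijective_of_isIso (π.app U)).2 a
  have ha₀ : IsUnit a₀ := (MulEquiv.isUnit_map (asIso (π.app U)).commRingCatIsoToRingEquiv).1 ha
  have hηU : genericPoint X ∈ U :=
    ((genericPoint_spec X).mem_open_set_iff U.isOpen).2 ⟨π (genericPoint X'), trivial, hη⟩
  obtain ⟨u₀, hu₀, hK⟩ := exists_unit_of_primeDiv (Models7.isNormalScheme_of_regular hX) (π w)
    (X.presheaf.germ U _ hηU a₀) (fun v hv hd => by
      by_cases hvU : v ∈ U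
      · exact ⟨X.presheaf.germ U v hvU a₀, ha₀.map _, toK_germ hvU a₀⟩
      · exfalso
        obtain ⟨y, rfl⟩ := (support_ker_eq_range i).le (not_not.1 hvU)
        have h1 := (hdim y).trans (ringKrullDim_le_one hd)
        exact absurd (by exact_mod_cast h1 : (2 : ℕ) ≤ 1) (by omega))
    (ha₀.map (X.presheaf.germ U _ hηU).hom).ne_zero
  obtain ⟨N, hN, s, rfl⟩ := X.presheaf.germ_exist u₀
  refine ⟨π.stalkMap w (X.presheaf.germ N _ hN s), hu₀.map _, ?_⟩
  rw [toK_germ] at hK
  have hsa : X.presheaf.map (homOfLE (inf_le_left : N ⊓ U ≤ N)).op s =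
      X.presheaf.map (homOfLE (inf_le_right : N ⊓ U ≤ U)).op a₀ := by
    refine germ_injective_of_isIntegral X (genericPoint X) (U := N ⊓ U) ⟨gen_mem hN, hηU⟩ ?_
    rw [TopCat.Presheaf.germ_res_apply, TopCat.Presheaf.germ_res_apply]
    exact hK
  rw [Scheme.Hom.germ_stalkMap_apply, toK_germ]
  have h := congrArg (fun x => X'.presheaf.germ (π ⁻¹ᵁ (N ⊓ U)) (genericPoint X')
    ⟨gen_mem (W := π ⁻¹ᵁ N) hN, hη⟩ (π.app (N ⊓ U) x)) hsa
  simp only [← CommRingCat.comp_apply, Scheme.Hom.naturality] at h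
  simp only [CommRingCat.comp_apply] at h
  rw [TopCat.Presheaf.germ_res_apply, TopCat.Presheaf.germ_res_apply] at h
  exact h

end Groth.Agent.PicBlowUp13
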