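import Groth.Agent.PicBlowUp13.AdjLin
import Groth.Agent.SerreDual.PushEquiv
import Groth.Agent.Coherent.QcohLocal
import Groth.Agent.Surf15.Transfer
import Groth.Agent.EulerLib.NumEquivDeg
import Groth.Agent.CurveRR24.Section
import Groth.Agent.SurfBl13.Jets

/-! Separated jets bound the degrees of curves on the blow-up. -/

set_option autoImplicit false
set_option linter.style.haveILetI false
set_option linter.unusedSectionVars false
set_option backward.isDefEq.respectTransparency.types false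
set_option maxHeartbeats 2000000

universe u

open CategoryTheory CategoryTheory.Limits AlgebraicGeometry TopologicalSpace Opposite
open Groth.Agent.Coherent Groth.Agent.PicLib Groth.Agent.AmpleLib Groth.Agent.EulerLib Groth.Agent.CurveRR24

namespace Groth.Agent.PicBlowUp13

variable {X : Scheme.{u}}

theorem surjective_app_of_HH {M N : X.Modules} (φ : M ⟶ N)
    (h : Function.Surjective (Sheaf.H.map ((SheafOfModules.toSheaf X.ringCatSheaf).map φ) 0)) :
    Function.Surjective (φ.app (⊤ : X.Opens)) := by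
  intro y
  let ψ : Coh.toAb M ⟶ Coh.toAb N := (SheafOfModules.toSheaf X.ringCatSheaf).map φ
  obtain ⟨z, hz⟩ := h ((HHTopEquiv N 0).symm ((secH (X := X.toTopCat) (Coh.toAb N) (⊤ : X.Opens)).symm y))
  refine ⟨secH (X := X.toTopCat) (Coh.toAb M) (⊤ : X.Opens) (HHTopEquiv M 0 z), ?_⟩
  refine (secH_postH (X := X.toTopCat) (F := Coh.toAb M) (G := Coh.toAb N) ψ (⊤ : X.Opens) (HHTopEquiv M 0 z)).symm.trans ?_
  rw [show postH (X := X.toTopCat) ψ 0 (⊤ : X.Opens) (HHTopEquiv M 0 z) = HHTopEquiv N 0 (Sheaf.H.map ψ 0 z) from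
    (SerreDual.hhTopEquiv_natural ψ 0 z).symm]
  rw [show Sheaf.H.map ψ 0 z = _ from hz, AddEquiv.apply_symm_apply, AddEquiv.apply_symm_apply]

theorem bijective_resM_of_eq (N : X.Modules) {V W : X.Opens} (h : V = W) :
    Function.Bijective (resM N h.le : Γ(N, W) → Γ(N, V)) := by
  subst h
  exact ⟨fun a b hab => by simpa only [resM_self] using hab, fun a => ⟨a, resM_self N _ a⟩⟩

/-- Separated jets give a section with any prescribed jet. -/
theorem exists_section_of_jets {M : X.Modules} (hM : PicF.IsInvertible M) (J : X.IdealSheafData) (U : X.affineOpens)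
    (hsupp : (J.support : Set X) ⊆ U.1) (hs : Function.Surjective (W4c2seshadripos.resH J M))
    {h : Γ(M, U.1)} (hh : IsGen M U.1 h) (c : Γ(X, U.1)) :
    ∃ (σ : Γ(M, ⊤)) (a : Γ(X, U.1)), resM M (le_top : U.1 ≤ ⊤) σ = a • h ∧ a - c ∈ J.ideal U := by
  let i := J.subschemeι
  let N := (Scheme.Modules.pullback i).obj M
  let u : M ⟶ (Scheme.Modules.pushforward i).obj N := (Scheme.Modules.pullbackPushforwardAdjunction i).unit.app M
  have htop : i ⁻¹ᵁ U.1 = i ⁻¹ᵁ ⊤ := by
    refine le_antisymm (i.preimage_mono le_top) fun z _ => ?_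
    exact hsupp (J.range_subschemeι.le ⟨z, rfl⟩)
  obtain ⟨q, hq⟩ := (bijective_resM_of_eq N htop).2 (show Γ(N, i ⁻¹ᵁ U.1) from u.app U.1 (c • h))
  obtain ⟨σ, hσ⟩ := surjective_app_of_HH u hs q
  have hco := hh.coef_spec le_rfl (resM M (le_top : U.1 ≤ ⊤) σ)
  rw [resM_self] at hco
  refine ⟨σ, _, hco.symm, ?_⟩
  set a := hh.coef le_rfl (resM M (le_top : U.1 ≤ ⊤) σ)
  have h0 : u.app U.1 ((a - c) • h) = 0 := by
    rw [sub_smul, map_sub, hco, app_resM, hσ, sub_eq_zero]
    exact hq
  rw [Scheme.Modules.Hom.app_smul] at h0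
  have h1 : i.app U.1 (a - c) = 0 := by
    refine ((isGen_pullSec i hh hM) (i ⁻¹ᵁ U.1) le_rfl).1 ?_
    show i.app U.1 (a - c) • resM N le_rfl (pullSec i h) = (0 : Γ(J.subscheme, i ⁻¹ᵁ U.1)) • resM N le_rfl (pullSec i h)
    rw [zero_smul, resM_self]
    exact h0
  rw [← J.ker_subschemeι_app U]
  exact RingHom.mem_ker.2 h1

/-- A section vanishing along an ideal lifts to the twist by the ideal. -/
theorem exists_lift_twist {L : X.Modules} (hL : PicF.IsInvertible L) (J : X.IdealSheafData) {τ : Γ(L, ⊤)} (hτ : τ ≠ 0)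
    (hloc : ∀ z : X, ∃ (W : X.Opens) (c : Γ(X, W)) (h : Γ(L, W)), z ∈ W ∧
      resM L (le_top : W ≤ ⊤) τ = c • h ∧ J.subschemeι.app W c = 0) :
    ∃ τ' : Γ(CohB1.tensorMod (ClSub.idealMod J) L, ⊤), τ' ≠ 0 := by
  let T := EulerLib.twistSeq (ShortComplex.mk (ClSub.idealModι J) (ClSub.toSubscheme J)
    (kernel.condition (ClSub.toSubscheme J))) L
  have hT : T.ShortExact := twistSeq_shortExact hL (shortExact_ideal J)
  let w : Γ(T.X₂, ⊤) := (unitTensorIso L).inv.app ⊤ τ
  have hw : T.g.app ⊤ w = 0 := by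
    refine sec_ext _ _ _ fun z _ => ?_
    obtain ⟨W, c, h, hz, hc, hc0⟩ := hloc z
    refine ⟨W, le_top, hz, ?_⟩
    rw [← app_resM, map_zero]
    rw [show resM T.X₂ (le_top : W ≤ ⊤) w = (unitTensorIso L).inv.app W (c • h) from
      (app_resM (unitTensorIso L).inv (le_top : W ≤ ⊤) τ).symm.trans (congrArg _ hc)]
    show T.g.app W ((unitTensorIso L).inv.app W (c • h)) = 0
    rw [Scheme.Modules.Hom.app_smul, show (unitTensorIso L).inv.app W h =
      tmul (show Γ(Coh.structureModule X, W) from (1 : Γ(X, W))) h from rfl, ← tmul_smul_left]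
    refine (tensorMap_tmul (ClSub.toSubscheme J) (𝟙 L) _ _).trans ?_
    have hc1 : (ClSub.toSubscheme J).app W (c • (show Γ(Coh.structureModule X, W) from (1 : Γ(X, W)))) = 0 := by
      have : J.subschemeι.app W (c * 1) = 0 := by rw [mul_one]; exact hc0
      exact this
    exact (congrArg (fun v => tmul v ((𝟙 L : L ⟶ L).app W h)) hc1).trans (tmul_zero_left _)
  obtain ⟨t, ht⟩ := Coherent.sections_exact hT w hw
  refine ⟨t, fun h0 => hτ ?_⟩
  have hw0 : w = 0 := ht.symm.trans ((congrArg (T.f.app ⊤) h0).trans (map_zero _))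
  have : (unitTensorIso L).hom.app ⊤ w = τ := by
    show (unitTensorIso L).hom.app ⊤ ((unitTensorIso L).inv.app ⊤ τ) = τ
    rw [← ConcreteCategory.comp_apply, ← Scheme.Modules.Hom.comp_app, Iso.inv_hom_id]
    rfl
  rw [← this, hw0]; exact map_zero _

end Groth.Agent.PicBlowUp13
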