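import Groth.Agent.PicBlowUp13.Jets
import Groth.Agent.Resolve13.PointExc
import Groth.Agent.Models7.ExcCurveAux
import Groth.Agent.DualMod3.SubNum
import Groth.Agent.Clifford24.Lipman.VeryAmple
import Groth.Agent.SurfBl13.R1Euler

/-! Separated jets and nefness on the blow-up. -/

set_option autoImplicit false
set_option linter.style.haveILetI false
set_option linter.unusedSectionVars false
set_option backward.isDefEq.respectTransparency.types false
set_option maxHeartbeats 800000

universe u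

open CategoryTheory CategoryTheory.Limits AlgebraicGeometry TopologicalSpace Opposite
open Groth.Agent.Coherent Groth.Agent.PicLib Groth.Agent.AmpleLib Groth.Agent.EulerLib Groth.Agent.CurveRR24

namespace Groth.Agent.PicBlowUp13

/-- Separated jets bound the degree on a curve through the point. -/
theorem deg_bound_of_jets (k : Type u) [Field k] {X C : Scheme.{u}} [C.Over (Spec (CommRingCat.of k))]
    [IsProper (C ↘ Spec (CommRingCat.of k))] [IsIntegral C] (hdim : topologicalKrullDim C ≤ 1) (g : C ⟶ X)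
    {x : X} (hx : IsClosed ({x} : Set X)) (y : C) (hy : g y = x)
    (hD : BlowUp.IsEffCartierIdeal ((W4c2seshadripos.pointIdeal x hx).comap g))
    {M : X.Modules} (hM : PicF.IsInvertible M) (s : ℕ) (hs : W4c2seshadripos.SeparatesJets M x hx s) :
    0 ≤ (s : ℤ) * Curv2.deg k C (ClSub.idealMod ((W4c2seshadripos.pointIdeal x hx).comap g)) 1 +
      Curv2.deg k C ((Scheme.Modules.pullback g).obj M) 1 := by
  set I := W4c2seshadripos.pointIdeal x hx with hIdef
  set D := I.comap g with hDdef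
  have hsI : (I.support : Set X) = {x} := Scheme.IdealSheafData.coe_support_vanishingIdeal _
  obtain ⟨U₀, hxU₀, h₀, hh₀⟩ := exists_isGen hM x
  obtain ⟨_, ⟨U', hU', rfl⟩, hxU, hUU₀⟩ :=
    X.isBasis_affineOpens.exists_subset_of_mem_open (show x ∈ U₀ from hxU₀) U₀.isOpen
  let U : X.affineOpens := ⟨U', hU'⟩
  let h := resM M (show U.1 ≤ U₀ from hUU₀) h₀
  have hh : IsGen M U.1 h := hh₀.restrict hUU₀
  have hpowI : ∀ n : ℕ, (I ^ n).ideal U = I.ideal U ^ n := fun n => by simp
  obtain ⟨_, ⟨V', hV', rfl⟩, hyV, hVU⟩ :=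
    C.isBasis_affineOpens.exists_subset_of_mem_open (show y ∈ g ⁻¹ᵁ U.1 by show g y ∈ U'; rw [hy]; exact hxU) (g ⁻¹ᵁ U.1).isOpen
  let V : C.affineOpens := ⟨V', hV'⟩
  have hDV : ∀ (W : C.affineOpens) (e : W.1 ≤ g ⁻¹ᵁ U.1) (n : ℕ),
      (D ^ n).ideal W = ((I ^ n).ideal U).map (g.appLE U.1 W.1 e).hom := fun W e n => by
    rw [hpowI, Ideal.map_pow, ← ProjLib.comap_ideal_eq I g U W e]
    simp [hDdef]
  have hyD : y ∈ D.support := by
    rw [← SetLike.mem_coe, hDdef, Scheme.IdealSheafData.support_comap]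
    show g y ∈ (I.support : Set X)
    rw [hsI, hy]; rfl
  obtain ⟨c, hc, hcD⟩ : ∃ c ∈ (I ^ s).ideal U, (g.appLE U.1 V.1 hVU).hom c ∉ (D ^ (s + 1)).ideal V := by
    by_contra hcon
    push Not at hcon
    have hle : (D ^ s).ideal V ≤ (D ^ (s + 1)).ideal V := by
      rw [hDV V hVU s, Ideal.map_le_iff_le_comap]
      exact fun c hc => hcon c hc
    obtain ⟨W, hyW, hWV, t, ht, hDW⟩ := ModPairLib.exists_local hD y V.1 hyV
    have hle' : (D ^ s).ideal W ≤ (D ^ (s + 1)).ideal W := by
      have e1 := fun n => ((D ^ n).map_ideal' (U := W) (V := V) (homOfLE hWV).op)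
      rw [← e1 s, ← e1 (s + 1)]
      exact Ideal.map_mono hle
    rw [Scheme.IdealSheafData.ideal_pow, Scheme.IdealSheafData.ideal_pow, Pi.pow_apply, Pi.pow_apply, hDW,
      Ideal.span_singleton_pow, Ideal.span_singleton_pow, Ideal.span_singleton_le_span_singleton] at hle'
    obtain ⟨v, hv⟩ := hle'
    rw [pow_succ, mul_assoc] at hv
    have hu : IsUnit t := IsUnit.of_mul_eq_one v
      (((mem_nonZeroDivisors_iff.1 (pow_mem ht s)).1 (t * v - 1) (by linear_combination hv.symm)) |> sub_eq_zero.1)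
    have htop : D.ideal W = ⊤ := hDW.trans (Ideal.span_singleton_eq_top.2 hu)
    have hz := (Scheme.IdealSheafData.mem_support_iff_of_mem (I := D) (U := W) hyW).1 hyD
    rw [Scheme.mem_zeroLocus_iff] at hz
    exact hz 1 (htop ▸ Submodule.mem_top) (by simpa using hyW)
  obtain ⟨σ, a, ha, hac⟩ := exists_section_of_jets hM (I ^ (s + 1)) U
    (by rw [Scheme.IdealSheafData.support_pow _ _ s.succ_ne_zero, hsI, Set.singleton_subset_iff]; exact hxU) hs hh c
  have hgM := PicLoc.isInvertible_pullback g hM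
  let τ : Γ((Scheme.Modules.pullback g).obj M, ⊤) := pullSec g σ
  have hres : ∀ (W : C.Opens) (e : W ≤ g ⁻¹ᵁ U.1), resM _ (le_top : W ≤ ⊤) τ =
      (g.appLE U.1 W e).hom a • resM _ e (pullSec g h) := fun W e => by
    rw [← resM_resM _ (le_top : g ⁻¹ᵁ U.1 ≤ ⊤) e]
    rw [show resM _ (le_top : g ⁻¹ᵁ U.1 ≤ ⊤) τ = g.app U.1 a • pullSec g h from
      (resM_pullSec g (le_top : U.1 ≤ ⊤) σ).trans ((congrArg (pullSec g) ha).trans (pullSec_smul g a h))]
    rw [resM_smul]
    rfl
  have hτ : τ ≠ 0 := fun h0 => by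
    refine hcD ?_
    have h1 := hres V.1 hVU
    rw [h0, map_zero] at h1
    have h2 : (g.appLE U.1 V.1 hVU).hom a = 0 := ((isGen_pullSec g hh hM) V.1 hVU).1 (by
      show (g.appLE U.1 V.1 hVU).hom a • _ = (0 : Γ(C, V.1)) • _
      rw [zero_smul]; exact h1.symm)
    have h3 : (g.appLE U.1 V.1 hVU).hom (a - c) ∈ (D ^ (s + 1)).ideal V :=
      (hDV V hVU (s + 1)).ge (Ideal.mem_map_of_mem _ hac)
    rw [map_sub, h2, zero_sub, Ideal.neg_mem_iff] at h3
    exact h3
  have haI : a ∈ (I ^ s).ideal U := by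
    have h1 : (I ^ (s + 1)).ideal U ≤ (I ^ s).ideal U := by
      rw [hpowI, hpowI]; exact Ideal.pow_le_pow_right s.le_succ
    simpa using add_mem (h1 hac) hc
  obtain ⟨τ', hτ'⟩ := exists_lift_twist hgM (D ^ s) hτ fun z => by
    by_cases hz : g z ∈ U.1
    · obtain ⟨_, ⟨W, hW, rfl⟩, hzW, hWU⟩ :=
        C.isBasis_affineOpens.exists_subset_of_mem_open (show z ∈ g ⁻¹ᵁ U.1 from hz) (g ⁻¹ᵁ U.1).isOpen
      refine ⟨W, _, _, hzW, hres W hWU, RingHom.mem_ker.1 ?_⟩
      rw [(D ^ s).ker_subschemeι_app ⟨W, hW⟩, hDV ⟨W, hW⟩ hWU s]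
      exact Ideal.mem_map_of_mem _ haI
    · obtain ⟨W₀, hzW₀, h₁, hh₁⟩ := exists_isGen hgM z
      let O : C.Opens := (g ⁻¹ᵁ I.support.compl) ⊓ W₀
      have hzO : z ∈ O := ⟨fun hzI => hz ((Set.mem_singleton_iff.1 (hsI.le hzI)) ▸ hxU), hzW₀⟩
      refine ⟨O, _, _, hzO, (hh₁.coef_spec (inf_le_right : O ≤ W₀) _).symm, ?_⟩
      have hempty : (D ^ s).subschemeι ⁻¹ᵁ O = ⊥ := bot_unique fun w hw => by
        have hw' := (D ^ s).range_subschemeι.le ⟨w, rfl⟩
        cases s with
        | zero => simp [Scheme.IdealSheafData.one_eq_top] at hw'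
        | succ n =>
          have e2 := Scheme.IdealSheafData.support_pow D _ n.succ_ne_zero
          have h3 : (D ^ (n + 1)).subschemeι w ∈ ((I.comap g).support : Set C) := by
            have := (congrArg (fun S : Closeds C => (S : Set C)) e2).le hw'
            exact this
          exact hw.1 ((congrArg (fun S : Closeds C => (S : Set C)) (Scheme.IdealSheafData.support_comap I g)).le h3)
      have hs2 : Subsingleton Γ((D ^ s).subscheme, (D ^ s).subschemeι ⁻¹ᵁ O) := by rw [hempty]; infer_instance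
      exact @Subsingleton.elim _ hs2 _ _
  have hDs := Inters29.isEffCartier_pow hD s
  have hIs := FlatMor12.IdealModGen.isInvertible_idealMod _ hDs
  haveI : Nontrivial (GA (baseHom k C) (CohB1.tensorMod (ClSub.idealMod (D ^ s)) ((Scheme.Modules.pullback g).obj M))) :=
    ⟨τ', 0, hτ'⟩
  have hn := (hhZero k (CohB1.tensorMod (ClSub.idealMod (D ^ s)) ((Scheme.Modules.pullback g).obj M))).toEquiv.nontrivial
  have h0 := (deg_nonneg_of_section k hdim (isInvertible_tensorMod hIs hgM) hn).1
  obtain ⟨e⟩ := Lef23.nonempty_idealMod_pow D hD s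
  rw [deg_tensor k hdim hIs hgM, deg_congr k e 1,
    deg_tensorPow k hdim (FlatMor12.IdealModGen.isInvertible_idealMod _ hD) s] at h0
  exact h0

theorem real_bound {a e w ε : ℝ} (hε : 0 < ε) (s₀ : ℕ)
    (h : ∀ s r : ℕ, s₀ ≤ s → (s : ℝ) + 2 < r * ε → 0 ≤ s * e + (r * a + w)) : 0 ≤ a + ε * e := by
  by_contra hneg
  push Not at hneg
  set δ := -(a + ε * e) with hδdef
  have hδ : 0 < δ := by linarith
  obtain ⟨r, hr⟩ := exists_nat_gt (max (((s₀ : ℝ) + 4) / ε) ((|w| + 4 * |e|) / δ))
  have h1 : (s₀ : ℝ) + 4 < r * ε := (div_lt_iff₀ hε).1 ((le_max_left _ _).trans_lt hr)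
  have h2 : |w| + 4 * |e| < r * δ := (div_lt_iff₀ hδ).1 ((le_max_right _ _).trans_lt hr)
  obtain ⟨s, hs1, hs2⟩ : ∃ s : ℕ, (s : ℝ) ≤ r * ε - 3 ∧ r * ε - 3 < s + 1 :=
    ⟨⌊(r : ℝ) * ε - 3⌋₊, Nat.floor_le (by linarith), Nat.lt_floor_add_one _⟩
  have hs0 : s₀ ≤ s := by
    have : (s₀ : ℝ) < s + 1 := by linarith
    exact_mod_cast Nat.lt_succ_iff.1 (by exact_mod_cast this)
  have h3 := h s r hs0 (by linarith)
  have h4 : ((s : ℝ) - r * ε) * e ≤ 4 * |e| := by
    refine (le_abs_self _).trans ?_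
    rw [abs_mul]
    exact mul_le_mul_of_nonneg_right (abs_le.2 ⟨by linarith, by linarith⟩) (abs_nonneg e)
  nlinarith [le_abs_self w]

/-- Separated jets of adjoint multiples give nefness of the twisted pullback. -/
theorem seshadri_bound (k : Type u) [Field k] [IsAlgClosed k] (X : Scheme.{u}) [X.Over (Spec (CommRingCat.of k))]
    [IsProper (X ↘ Spec (CommRingCat.of k))] [Smooth (X ↘ Spec (CommRingCat.of k))] [IrreducibleSpace X]
    (hdim : topologicalKrullDim X = ((2 : ℕ) : WithBot ℕ∞)) (ω : X.Modules)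
    (hω : ExtPow.IsExtPow 2 (Omega.sheaf (X ↘ Spec (CommRingCat.of k))) ω)
    (A : X.Modules) (hA : CohB1.IsAmple A) (x : X) (hx : IsClosed ({x} : Set X))
    (Y : Scheme.{u}) [Y.Over (Spec (CommRingCat.of k))] (f : Y ⟶ X)
    (hf : f ≫ (X ↘ Spec (CommRingCat.of k)) = Y ↘ Spec (CommRingCat.of k))
    (hbl : BlowUp.IsBlowUp f (W4c2seshadripos.pointIdeal x hx)) (ε : ℝ) (hε : 0 < ε)
    (hjets : ∃ s₀ : ℕ, ∀ s : ℕ, s₀ ≤ s → ∀ r : ℕ, ((s : ℝ) + 2) < (r : ℝ) * ε →
      W4c2seshadripos.SeparatesJets (CohB1.tensorMod (CohB1.tensorPow A r) ω) x hx s)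
    (C : Scheme.{u}) (i : C ⟶ Y) [IsClosedImmersion i] [IsIntegral C] (hC : topologicalKrullDim C = 1) :
    (0 : ℝ) ≤ (Pic13.curveDeg k (i ≫ (Y ↘ Spec (CommRingCat.of k)))
        ((Scheme.Modules.pullback i).obj ((Scheme.Modules.pullback f).obj A)) : ℝ) +
      ε * (Pic13.curveDeg k (i ≫ (Y ↘ Spec (CommRingCat.of k)))
        ((Scheme.Modules.pullback i).obj
          (ClSub.idealMod (BlowUp.exceptional f (W4c2seshadripos.pointIdeal x hx)))) : ℝ) := by
  haveI : IsReduced X := WeilLib.isReduced_of_smooth (X ↘ Spec (CommRingCat.of k))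
  haveI : IsIntegral X := isIntegral_of_irreducibleSpace_of_isReduced _
  haveI := isNoetherian_of_proper (X := X) k
  haveI : SmoothOfRelativeDimension 2 (X ↘ Spec (CommRingCat.of k)) := GenSmoothLib.smoothOfRelativeDimension_toField _ hdim
  obtain ⟨hxr, hxd⟩ := SurfBl13.regular_of_surface k (X ↘ Spec (CommRingCat.of k)) x hx
  haveI := hxr
  haveI : IsProper f := SurfBl13.isProper_blowUp f hbl
  letI : C.Over (Spec (CommRingCat.of k)) := ⟨i ≫ (Y ↘ Spec (CommRingCat.of k))⟩
  haveI : IsProper (Y ↘ Spec (CommRingCat.of k)) := by rw [← hf]; infer_instance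
  haveI : IsProper (C ↘ Spec (CommRingCat.of k)) :=
    inferInstanceAs (IsProper (i ≫ (Y ↘ Spec (CommRingCat.of k))))
  let E := BlowUp.exceptional f (W4c2seshadripos.pointIdeal x hx)
  have hE : BlowUp.IsEffCartierIdeal E := hbl.1
  have hIE := FlatMor12.IdealModGen.isInvertible_idealMod E hE
  have hcd : ∀ {L : C.Modules}, PicF.IsInvertible L →
      Pic13.curveDeg k (i ≫ (Y ↘ Spec (CommRingCat.of k))) L = Curv2.deg k C L 1 := fun {L} hL => by
    haveI := isNoetherian_of_proper (X := C) k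
    show FGA.eulerCharLE k C L 1 - FGA.eulerCharLE k C (Coh.structureModule C) 1 = _
    rw [eulerCharLE_eq k _ (CurveRR24.isCoh_of_isInvertible k hL).1 hC.le,
      eulerCharLE_eq k _ (isCoh_structureModule _).1 hC.le, Curv2.deg, Nat.cast_one, one_mul]
  have hfA := PicLoc.isInvertible_pullback f hA.1
  have hiA := PicLoc.isInvertible_pullback i hfA
  have hiE := PicLoc.isInvertible_pullback i hIE
  rw [hcd hiA, hcd hiE]
  have hsI : ((W4c2seshadripos.pointIdeal x hx).support : Set X) = {x} :=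
    Scheme.IdealSheafData.coe_support_vanishingIdeal _
  have hEsupp : (E.support : Set Y) = f ⁻¹' {x} := by
    show (((W4c2seshadripos.pointIdeal x hx).comap f).support : Set Y) = _
    rw [Scheme.IdealSheafData.support_comap, ← hsI]; rfl
  by_cases hgen : f (i (genericPoint C)) = x
  · -- the exceptional curve
    have hall : ∀ z : C, f (i z) = x := fun z => by
      have h := ((genericPoint_specializes z).map i.continuous).map f.continuous
      rw [hgen] at h
      exact Set.mem_singleton_iff.1 (h.mem_closed hx rfl)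
    have hbot : E.comap i = ⊥ := Scheme.IdealSheafData.support_eq_top_iff.1 (SetLike.coe_injective (by
      rw [Scheme.IdealSheafData.support_comap]
      exact Set.eq_univ_of_forall fun z => (show i z ∈ (E.support : Set Y) from hEsupp.ge (hall z))))
    obtain ⟨E₀, ι, hι, hexc, -, -, hker⟩ := Resolve13.exists_excCurve_point x hx hxd f hbl
    haveI := hι
    have hle : ι.ker ≤ i.ker := by
      have h1 : ι.ker.comap i = ⊥ := (congrArg (fun J => Scheme.IdealSheafData.comap J i) hker).trans hbot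
      exact (Scheme.IdealSheafData.le_map_iff_comap_le.2 h1.le).trans (Scheme.IdealSheafData.map_bot i).le
    let j := IsClosedImmersion.lift ι i hle
    have hj : j ≫ ι = i := IsClosedImmersion.lift_fac _ _ _
    haveI : IsClosedImmersion (j ≫ ι) := hj ▸ inferInstance
    haveI : IsClosedImmersion j := IsClosedImmersion.of_comp j ι
    obtain ⟨-, K, hK, e₀, ⟨φ⟩⟩ := hexc
    haveI : IsIntegral (CohB1.ProjSpace 1 K) := CurveLib.isIntegral_projSpace K 1
    haveI : IsIntegral E₀ := IsIntegral.of_isIso e₀.hom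
    have hd₀ : topologicalKrullDim E₀ ≤ 1 := by
      rw [(IsHomeomorph.topologicalKrullDim_eq _ (e₀.inv.homeomorph).isHomeomorph)]
      exact (DimLib.PN.topologicalKrullDim_projSpace 1 K).le.trans (by norm_num)
    haveI : Surjective j := ⟨fun z => (Models7.range_eq_univ_of_dim j hC hd₀).ge (Set.mem_univ z)⟩
    haveI : IsIso j := isIso_of_isClosedImmersion_of_surjective j
    let e : CohB1.ProjSpace 1 K ≅ C := e₀ ≪≫ (asIso j).symm
    have hm : e.hom ≫ i = e₀.hom ≫ ι := by
      show (e₀.hom ≫ inv j) ≫ i = _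
      rw [Category.assoc, ← hj, IsIso.inv_hom_id_assoc]
    have hdeg : Models7.P1Deg.HasDeg e ((Scheme.Modules.pullback i).obj (ClSub.idealMod E)) 1 :=
      ⟨(Scheme.Modules.pullbackComp e.hom i).app _ ≪≫ (Scheme.Modules.pullbackCongr hm).app _ ≪≫
        eqToIso (congrArg (fun J => (Scheme.Modules.pullback (e₀.hom ≫ ι)).obj (ClSub.idealMod J)) hker.symm) ≪≫ φ⟩
    have he := SurfBl13.euler_line k e hiE hdeg
    have hO := SurfBl13.euler_line k e isInvertible_structureModule (Models7.P1Deg.hasDeg_structure e)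
    haveI : Nonempty ((Scheme.IdealSheafData.vanishingIdeal ⟨{x}, hx⟩).comap f).subscheme := by
      obtain ⟨z, hz⟩ := E.range_subschemeι.ge (show i (genericPoint C) ∈ (E.support : Set Y) from hEsupp.ge hgen)
      exact ⟨z⟩
    have hEle : E.subschemeι.ker ≤ i.ker := by
      exact ((Scheme.IdealSheafData.ker_subschemeι E).trans hker.symm).trans_le hle
    have ha : Nonempty ((Scheme.Modules.pullback i).obj ((Scheme.Modules.pullback f).obj A) ≅ Coh.structureModule C) := by
      refine (PicM.of_eq_one_iff hiA).1 ?_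
      show PicM.pull i (PicM.pull f (PicM.of hA.1)) = 1
      rw [← IsClosedImmersion.lift_fac E.subschemeι i hEle, ← PicM.pull_pull]
      exact (congrArg _ (SurfBl13.pull_fibre_eq_one f hx (PicM.of hA.1))).trans (map_one _)
    obtain ⟨ψ⟩ := ha
    rw [deg_congr k ψ 1, deg_structure]
    have : Curv2.deg k C ((Scheme.Modules.pullback i).obj (ClSub.idealMod E)) 1 = 1 := by
      rw [Curv2.deg, he, hO]; norm_num
    rw [this]; push_cast; linarith
  · have hD : BlowUp.IsEffCartierIdeal (E.comap i) := by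
      refine ModPairLib.isEffCartier_comap_of_dense hE i (Surf15.isDenseOpen_of_nonempty ⟨genericPoint C, ?_⟩)
      rw [← ModPairLib.interior_comap]
      show genericPoint C ∈ ModPair.interior (E.comap i)
      show genericPoint C ∉ (E.comap i).support
      intro hz
      rw [Scheme.IdealSheafData.support_comap] at hz
      exact hgen (hEsupp.le hz)
    have hI' : (W4c2seshadripos.pointIdeal x hx).comap (i ≫ f) = E.comap i := Scheme.IdealSheafData.comap_comp _ _ _
    have hD' : BlowUp.IsEffCartierIdeal ((W4c2seshadripos.pointIdeal x hx).comap (i ≫ f)) := hI'.symm ▸ hD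
    obtain ⟨p⟩ := Inters29.nonempty_pullback_idealMod_iso i E hE hD
    rw [deg_congr k p 1]
    have hgA := PicLoc.isInvertible_pullback (i ≫ f) hA.1
    rw [show Curv2.deg k C ((Scheme.Modules.pullback i).obj ((Scheme.Modules.pullback f).obj A)) 1 =
        Curv2.deg k C ((Scheme.Modules.pullback (i ≫ f)).obj A) 1 from deg_congr k ((Scheme.Modules.pullbackComp i f).app A) 1]
    by_cases hmeet : ∃ y : C, f (i y) = x
    · obtain ⟨y, hy⟩ := hmeet
      obtain ⟨s₀, hs₀⟩ := hjets
      have hωi := Surf15.isInvertible_canonical k hdim hω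
      have hgω := PicLoc.isInvertible_pullback (i ≫ f) hωi
      refine real_bound hε s₀ (w := (Curv2.deg k C ((Scheme.Modules.pullback (i ≫ f)).obj ω) 1 : ℝ)) fun s r hs hr => ?_
      have hM := isInvertible_tensorMod (isInvertible_tensorPow hA.1 r) hωi
      have hb := deg_bound_of_jets k hC.le (i ≫ f) hx y hy hD' hM s (hs₀ s hs r hr)
      have key : PicM.pull (i ≫ f) (PicM.of hM) =
          PicM.of (isInvertible_tensorMod (isInvertible_tensorPow hgA r) hgω) := by
        rw [← PicM.of_mul (isInvertible_tensorPow hA.1 r) hωi, ← PicM.of_mul (isInvertible_tensorPow hgA r) hgω,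
          PicM.of_tensorPow hA.1, PicM.of_tensorPow hgA, map_mul, map_pow, PicM.pull_of, PicM.pull_of]
      rw [PicM.pull_of, PicM.of_eq_iff] at key
      obtain ⟨q⟩ := key
      rw [deg_congr k q 1, deg_tensor k hC.le (isInvertible_tensorPow hgA r) hgω,
        deg_tensorPow k hC.le hgA r, hI'] at hb
      exact_mod_cast hb
    · have htop : E.comap i = 1 := by
        rw [Scheme.IdealSheafData.one_eq_top, ← Scheme.IdealSheafData.support_eq_bot_iff]
        refine TopologicalSpace.Closeds.ext (Set.eq_empty_iff_forall_notMem.2 fun z hz => ?_)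
        rw [Scheme.IdealSheafData.support_comap] at hz
        exact hmeet ⟨z, hEsupp.le hz⟩
      obtain ⟨q⟩ := (PicM.of_eq_one_iff (FlatMor12.IdealModGen.isInvertible_idealMod _ hD)).1
        ((Inters29.idealCl_congr htop hD Inters29.isEffCartier_one).trans Inters29.idealCl_one)
      rw [deg_congr k q 1, deg_structure, Int.cast_zero, mul_zero, add_zero]
      let O := SDiv28.offCenter f (W4c2seshadripos.pointIdeal x hx)
      have hr : Set.range i ⊆ Set.range O.ι := by
        rintro _ ⟨z, rfl⟩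
        rw [Scheme.Opens.range_ι]
        exact fun hz => hmeet ⟨z, hsI.le hz⟩
      let i' := IsOpenImmersion.lift O.ι i hr
      haveI : IsClosedImmersion (i' ≫ O.ι) := by rw [IsOpenImmersion.lift_fac]; infer_instance
      haveI : IsPreimmersion i' := IsPreimmersion.of_comp i' O.ι
      haveI := SDiv28.isOpenImmersion_offCenter hbl
      haveI : IsPreimmersion (i ≫ f) := by
        rw [← IsOpenImmersion.lift_fac O.ι i hr, Category.assoc]; infer_instance
      haveI : IsClosedImmersion (i ≫ f) := IsClosedImmersion.of_isPreimmersion _ ((i ≫ f).isClosedMap.isClosed_range)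
      haveI := isNoetherian_of_proper (X := C) k
      exact Int.cast_nonneg (Lipman24.deg_pos_of_isAmple k (i ≫ f) hC hA).le

end Groth.Agent.PicBlowUp13
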