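import Groth.Agent.PicNormal23.Section
import Groth.Agent.PicLib.PullbackGen
import Groth.Agent.AmpleLib.Power
import Groth.Agent.AmpleLib.Twist2
import Groth.Agent.AmpleLib.Relative
import Groth.Agent.EulerLib.InvClass

/-! Modules trivial off one prime divisor: the coefficient at the divisor. -/

set_option autoImplicit false
set_option linter.style.haveILetI false
set_option backward.isDefEq.respectTransparency.types false
set_option maxHeartbeats 800000

universe u

open CategoryTheory AlgebraicGeometry Opposite TopologicalSpace IsLocalRing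
open Groth.Agent.Coherent Groth.Agent.PicLib Groth.Agent.AmpleLib Groth.Agent.PicNormal23

namespace Groth.Agent.PicBlowUp13

variable {P : Scheme.{u}} [IsIntegral P] (V : P.Opens) (w : P) (hη : genericPoint P ∈ V)

/-- `c` is the coefficient at `w` of a generator on `V`. -/
def RS (N : P.Modules) (c : P.functionField) : Prop :=
  ∃ (g : Γ(N, V)) (W : P.Opens) (hw : w ∈ W) (e : Γ(N, W)), IsGen N V g ∧ IsGen N W e ∧
    ∃ (O : P.Opens) (hO : genericPoint P ∈ O) (hOV : O ≤ V) (hOW : O ≤ W) (r : Γ(P, O)),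
      P.presheaf.germ O _ hO r = c ∧ resM N hOV g = r • resM N hOW e

include hη in
theorem RS.exists {N : P.Modules} (hN : PicF.IsInvertible N) {g : Γ(N, V)} (hg : IsGen N V g) :
    ∃ c : P.functionField, c ≠ 0 ∧ RS V w N c := by
  obtain ⟨W, hw, e, he⟩ := exists_isGen hN w
  have hηW : genericPoint P ∈ W := gen_mem hw
  have h := (he.restrict (inf_le_right : V ⊓ W ≤ W)).coef_spec le_rfl (resM N (inf_le_left : V ⊓ W ≤ V) g)
  rw [resM_self] at h
  refine ⟨_, ?_, g, W, hw, e, hg, he, V ⊓ W, ⟨hη, hηW⟩, inf_le_left, inf_le_right, _, rfl, h.symm⟩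
  have hu := (he.restrict (inf_le_right : V ⊓ W ≤ W)).isUnit_coef (hg.restrict (inf_le_left : V ⊓ W ≤ V))
  exact (hu.map (P.presheaf.germ (V ⊓ W) _ ⟨hη, hηW⟩).hom).ne_zero

theorem RS.tmul {N N' : P.Modules} {c c' : P.functionField} (h : RS V w N c) (h' : RS V w N' c') :
    RS V w (CohB1.tensorMod N N') (c * c') := by
  obtain ⟨g, W, hw, e, hg, he, O, hO, hOV, hOW, r, hr, heq⟩ := h
  obtain ⟨g', W', hw', e', hg', he', O', hO', hOV', hOW', r', hr', heq'⟩ := h'
  refine ⟨AmpleLib.tmul g g', W ⊓ W', ⟨hw, hw'⟩, AmpleLib.tmul (resM N inf_le_left e) (resM N' inf_le_right e'),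
    isGen_tmul hg hg', isGen_tmul (he.restrict inf_le_left) (he'.restrict inf_le_right),
    O ⊓ O', ⟨hO, hO'⟩, inf_le_left.trans hOV, inf_le_inf hOW hOW', res inf_le_left r * res inf_le_right r', ?_, ?_⟩
  · rw [map_mul, ← hr, ← hr']
    exact congrArg₂ (· * ·) (TopCat.Presheaf.germ_res_apply P.presheaf (homOfLE inf_le_left) _ _ r)
      (TopCat.Presheaf.germ_res_apply P.presheaf (homOfLE inf_le_right) _ _ r')
  · have h1 := congrArg (resM N (inf_le_left : O ⊓ O' ≤ O)) heq
    have h2 := congrArg (resM N' (inf_le_right : O ⊓ O' ≤ O')) heq'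
    rw [resM_smul, resM_resM, resM_resM] at h1 h2
    rw [resM_tmul, resM_tmul, resM_resM, resM_resM, h1, h2, tmul_smul_smul]

include hη in
theorem RS.one : RS V w (Coh.structureModule P) 1 := by
  refine ⟨oneSec V, ⊤, trivial, oneSec ⊤, isGen_oneSec V, isGen_oneSec ⊤, V, hη, le_rfl, le_top, 1, map_one _, ?_⟩
  rw [one_smul, resM_oneSec, resM_oneSec]

include hη in
theorem RS.pow {N : P.Modules} {c : P.functionField} (h : RS V w N c) :
    ∀ n : ℕ, RS V w (CohB1.tensorPow N n) (c ^ n)
  | 0 => by rw [pow_zero]; exact RS.one V w hη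
  | n + 1 => by rw [pow_succ]; exact RS.tmul V w (RS.pow h n) h

theorem RS.iso {N N' : P.Modules} {c : P.functionField} (h : RS V w N c) (i : N ≅ N') : RS V w N' c := by
  obtain ⟨g, W, hw, e, hg, he, O, hO, hOV, hOW, r, hr, heq⟩ := h
  refine ⟨i.hom.app V g, W, hw, i.hom.app W e, isGen_map_iso i hg, isGen_map_iso i he, O, hO, hOV, hOW, r, hr, ?_⟩
  rw [← app_resM, ← app_resM, heq, Scheme.Modules.Hom.app_smul]

/-- The coefficient of the structure sheaf is a unit at `w`, when units of `V` are units at `w`. -/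
theorem RS.isUnit_one (hext : ∀ (a : Γ(P, V)), IsUnit a →
      ∃ u : P.presheaf.stalk w, IsUnit u ∧ toK w u = P.presheaf.germ V _ hη a)
    {c : P.functionField} (h : RS V w (Coh.structureModule P) c) :
    ∃ u : P.presheaf.stalk w, IsUnit u ∧ toK w u = c := by
  obtain ⟨g, W, hw, e, hg, he, O, hO, hOV, hOW, r, hr, heq⟩ := h
  have hgu := (isGen_oneSec (X := P) V).isUnit_coef hg
  have heu := (isGen_oneSec (X := P) W).isUnit_coef he
  have hga := (isGen_oneSec (X := P) V).coef_spec le_rfl g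
  have hea := (isGen_oneSec (X := P) W).coef_spec le_rfl e
  rw [resM_self] at hga hea
  set a := (isGen_oneSec (X := P) V).coef le_rfl g
  set b := (isGen_oneSec (X := P) W).coef le_rfl e
  obtain ⟨ua, hua, hua'⟩ := hext a hgu
  have hbu : IsUnit (P.presheaf.germ W w hw b) := heu.map _
  refine ⟨ua * ↑hbu.unit⁻¹, hua.mul (Units.isUnit _), ?_⟩
  rw [map_mul, hua', ← hr]
  have h1 : res hOV a = r * res hOW b := by
    rw [← hga, ← hea, resM_smul, resM_smul, resM_oneSec, resM_oneSec, smul_smul] at heq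
    refine ((isGen_oneSec (X := P) O) O le_rfl).1 ?_
    show _ • resM _ _ (oneSec O) = _ • resM _ _ (oneSec O)
    rw [resM_self]
    exact heq
  have h2 := congrArg (P.presheaf.germ O _ hO) h1
  rw [map_mul, show P.presheaf.germ O _ hO (res hOV a) = _ from
      TopCat.Presheaf.germ_res_apply P.presheaf (homOfLE hOV) _ hO a,
    show P.presheaf.germ O _ hO (res hOW b) = toK w (P.presheaf.germ W w hw b) from
      (TopCat.Presheaf.germ_res_apply P.presheaf (homOfLE hOW) _ hO b).trans (toK_germ hw b).symm] at h2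
  refine (congrArg (· * toK w (↑hbu.unit⁻¹ : P.presheaf.stalk w)) h2).trans ?_
  rw [mul_assoc, ← map_mul, IsUnit.mul_val_inv, map_one, mul_one]

/-- A module whose coefficient is a unit is trivial. -/
theorem RS.trivial [IsLocallyNoetherian P] (hP : Pi1.IsNormalScheme P)
    (hdiv : ∀ z : P, IsPrimeDiv z → z ∈ V ∨ z = w)
    {N : P.Modules} (hN : PicF.IsInvertible N) {c : P.functionField} (h : RS V w N c)
    (hc : ∃ u : P.presheaf.stalk w, IsUnit u ∧ toK w u = c) :
    Nonempty (N ≅ Coh.structureModule P) := by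
  obtain ⟨g, W, hw, e, hg, he, O, hO, hOV, hOW, r, hr, heq⟩ := h
  let ξ := N.presheaf.germ V (genericPoint P) (hOV hO) g
  have hξ : ξ ≠ 0 := germ_ne_zero hN _ hg
  have hφ : ξ = c • N.presheaf.germ W (genericPoint P) (gen_mem hw) e := by
    have h2 := congrArg (N.presheaf.germ O _ hO) heq
    rw [QCohLoc.germ_smul', hr, show N.presheaf.germ O _ hO (resM N hOV g) = _ from
        TopCat.Presheaf.germ_res_apply N.presheaf (homOfLE hOV) _ hO g,
      show N.presheaf.germ O _ hO (resM N hOW e) = _ from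
        TopCat.Presheaf.germ_res_apply N.presheaf (homOfLE hOW) _ hO e] at h2
    exact h2
  refine nonempty_iso_of_genAt hN fun z₀ => genAt_of_primeDiv hP hN hξ z₀ fun z _ hz => ?_
  rcases hdiv z hz with hzV | rfl
  · exact ⟨V, hzV, g, hg, rfl⟩
  · exact (genAt_iff hN hw he hφ).2 hc

end Groth.Agent.PicBlowUp13
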