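import Groth.Agent.PicBlowUp13.Geom
import Groth.Agent.PicBlowUp13.Order
import Groth.Agent.PicLib.PicMonoid
import Groth.Agent.ExcC13.QProjContract
import Groth.Agent.Lef23.PicLeff
import Groth.Agent.FlatMor12.IdealModGen
import Groth.Agent.AmpleLib.FTIdeal

/-! The Picard group of a blow-up of a regular variety along a regular subvariety. -/

set_option autoImplicit false
set_option linter.style.haveILetI false
set_option maxHeartbeats 1000000
set_option maxSynthPendingDepth 3
set_option synthInstance.maxHeartbeats 100000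
set_option backward.isDefEq.respectTransparency.types false

universe u

open CategoryTheory CategoryTheory.Limits AlgebraicGeometry TopologicalSpace
open Groth.Agent.Coherent Groth.Agent.PicLib Groth.Agent.AmpleLib Groth.Agent.PicNormal23

namespace Groth.Agent.PicBlowUp13

theorem pull_ι_eq_one {P : Scheme.{u}} {V : P.Opens} {N : P.Modules} (hN : PicF.IsInvertible N) {g : Γ(N, V)}
    (hg : IsGen N V g) : PicM.pull V.ι (PicM.of hN) = 1 := by
  rw [PicM.pull_of, PicM.of_eq_one_iff]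
  have h := isGen_pullSec V.ι hg hN
  have hV : V.ι ⁻¹ᵁ V = ⊤ := V.ι_preimage_self
  obtain ⟨s, hs⟩ : ∃ s, IsGen ((Scheme.Modules.pullback V.ι).obj N) ⊤ s := hV ▸ ⟨_, h⟩
  haveI := isIso_of_isGen (unitDesc _ s) (by rw [unitVal_unitDesc, resM_self]; exact hs)
  exact ⟨(asIso (unitDesc _ s)).symm⟩

theorem exists_gen_of_pull {P : Scheme.{u}} {V : P.Opens} {N : P.Modules} (hN : PicF.IsInvertible N)
    (h : PicM.pull V.ι (PicM.of hN) = 1) : ∃ g : Γ(N, V), IsGen N V g := by
  rw [PicM.pull_of, PicM.of_eq_one_iff] at h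
  obtain ⟨e⟩ := h
  exact exists_isGen_of_iso ((Scheme.Modules.restrictFunctorIsoPullback V.ι).app N ≪≫ e)

theorem exists_gen_idealMod_off {P : Scheme.{u}} (I : P.IdealSheafData) (O : P.Opens)
    (hO : O = ⟨(I.support : Set P)ᶜ, I.support.2.isOpen_compl⟩) :
    ∃ k : Γ(ClSub.idealMod I, O), IsGen (ClSub.idealMod I) O k ∧
      (ClSub.idealModι I).app O k = (1 : Γ(P, O)) := by
  subst hO
  obtain ⟨k, hk⟩ := exists_idealModι_eq_one I
  refine ⟨k, fun V hV => ?_, hk⟩
  haveI := mono_idealModι I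
  have hkV : (ClSub.idealModι I).app V (resM _ hV k) = (1 : Γ(P, V)) := by
    rw [app_resM]
    exact (congrArg (resM (Coh.structureModule P) hV) hk).trans (map_one (res hV))
  have key : ∀ r : Γ(P, V), (ClSub.idealModι I).app V (r • resM _ hV k) = r := fun r => by
    rw [Scheme.Modules.Hom.app_smul, hkV]; exact mul_one r
  refine ⟨fun a b h => ?_, fun x => ⟨(ClSub.idealModι I).app V x, ?_⟩⟩
  · exact (key a).symm.trans ((congrArg _ h).trans (key b))
  · exact app_injective_of_mono (ClSub.idealModι I) V (key _)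

variable {P : Scheme.{u}} [IsIntegral P]

/-- `c` comes from a unit at `w`. -/
def IsU (w : P) (c : P.functionField) : Prop := ∃ u : P.presheaf.stalk w, IsUnit u ∧ toK w u = c

theorem IsU.mul {w : P} {a b : P.functionField} (ha : IsU w a) (hb : IsU w b) : IsU w (a * b) := by
  obtain ⟨u, hu, rfl⟩ := ha
  obtain ⟨v, hv, rfl⟩ := hb
  exact ⟨u * v, hu.mul hv, map_mul _ _ _⟩

theorem IsU.inv {w : P} {a : P.functionField} (ha : IsU w a) : IsU w a⁻¹ := by
  obtain ⟨u, hu, rfl⟩ := ha
  obtain ⟨v, rfl⟩ := hu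
  exact ⟨↑v⁻¹, Units.isUnit _, eq_inv_of_mul_eq_one_left (by rw [← map_mul, Units.inv_mul, map_one])⟩

theorem IsU.pow {w : P} {a : P.functionField} (ha : IsU w a) : ∀ n : ℕ, IsU w (a ^ n)
  | 0 => ⟨1, isUnit_one, by rw [map_one, pow_zero]⟩
  | n + 1 => by rw [pow_succ]; exact (IsU.pow ha n).mul ha

/-- Classes trivial off the exceptional divisor are powers of the class of its ideal. -/
theorem classes_trivial_off [IsLocallyNoetherian P] (hP : Pi1.IsNormalScheme P) (V : P.Opens) (w : P)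
    (hη : genericPoint P ∈ V) (hdiv : ∀ z : P, IsPrimeDiv z → z ∈ V ∨ z = w)
    (hext : ∀ (a : Γ(P, V)), IsUnit a → IsU w (P.presheaf.germ V _ hη a))
    {W : P.Opens} (hW : IsAffineOpen W) (hw : w ∈ W) {t : Γ(P, W)} (ht : t ∈ nonZeroDivisors Γ(P, W))
    (hmax : IsLocalRing.maximalIdeal (P.presheaf.stalk w) = Ideal.span {P.presheaf.germ W w hw t})
    (I : P.IdealSheafData) (hVI : V = ⟨(I.support : Set P)ᶜ, I.support.2.isOpen_compl⟩)
    (hIW : I.ideal ⟨W, hW⟩ = Ideal.span {t})
    {M : P.Modules} (hI : PicF.IsInvertible (ClSub.idealMod I)) (hM : PicF.IsInvertible M)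
    (hMI : PicM.of hM * PicM.of hI = 1) :
    PicM.pull V.ι (PicM.of hI) = 1 ∧ PicM.pull V.ι (PicM.of hM) = 1 ∧
      (∀ a : PicM P, PicM.pull V.ι a = 1 → ∃ n : ℕ, a = PicM.of hI ^ n ∨ a = PicM.of hM ^ n) ∧
      ∀ n : ℕ, (PicM.of hI ^ n = 1 ∨ PicM.of hM ^ n = 1) → n = 0 := by
  let τ₀ := P.presheaf.germ W w hw t
  let τ := toK w τ₀
  have hinj : Function.Injective (toK w) := IsFractionRing.injective (P.presheaf.stalk w) P.functionField
  haveI : Nonempty W := ⟨⟨w, hw⟩⟩
  have ht0 : t ≠ 0 := nonZeroDivisors.ne_zero ht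
  have hτ₀ : τ₀ ≠ 0 := fun h => ht0 (germ_injective_of_isIntegral P w hw (by rw [map_zero]; exact h))
  have hτ : τ ≠ 0 := fun h => hτ₀ (hinj (by rw [map_zero]; exact h))
  have hirr : Irreducible τ₀ :=
    ((Ideal.span_singleton_prime hτ₀).1 (hmax ▸ (IsLocalRing.maximalIdeal.isMaximal _).isPrime)).irreducible
  obtain ⟨g, hg, hg1⟩ := exists_gen_idealMod_off I V hVI
  have ht1 : I.subschemeι.app W t = 0 := by
    have hk : t ∈ I.subschemeι.ker.ideal ⟨W, hW⟩ := by
      rw [Scheme.IdealSheafData.ker_subschemeι, hIW]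
      exact Ideal.mem_span_singleton_self t
    rw [Scheme.Hom.ker_apply] at hk
    exact hk
  obtain ⟨e, he⟩ := (mem_range_idealModι I W t).2 ht1
  have heg : IsGen (ClSub.idealMod I) W e :=
    FlatMor12.IdealModGen.bijective_smul_of_affine_gen I hW he (IsRegular.of_ne_zero ht0).left hIW
  have hO : genericPoint P ∈ V ⊓ W := ⟨hη, gen_mem hw⟩
  have hc := (heg.restrict (inf_le_right : V ⊓ W ≤ W)).coef_spec le_rfl (resM _ (inf_le_left : V ⊓ W ≤ V) g)
  rw [resM_self] at hc
  set r := (heg.restrict (inf_le_right : V ⊓ W ≤ W)).coef le_rfl (resM _ (inf_le_left : V ⊓ W ≤ V) g)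
  have hcI : RS V w (ClSub.idealMod I) τ⁻¹ := by
    refine ⟨g, W, hw, e, hg, heg, V ⊓ W, hO, inf_le_left, inf_le_right, r, ?_, hc.symm⟩
    have h := congrArg ((ClSub.idealModι I).app (V ⊓ W)) hc
    rw [Scheme.Modules.Hom.app_smul, app_resM, app_resM, hg1, he] at h
    have h' : r * res (inf_le_right : V ⊓ W ≤ W) t = 1 := h.trans (map_one (res (inf_le_left : V ⊓ W ≤ V)))
    refine eq_inv_of_mul_eq_one_left ?_
    have h'' := congrArg (P.presheaf.germ (V ⊓ W) (genericPoint P) hO) h'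
    rw [map_mul, map_one, show P.presheaf.germ (V ⊓ W) _ hO (res inf_le_right t) = τ from
      (TopCat.Presheaf.germ_res_apply P.presheaf (homOfLE inf_le_right) _ hO t).trans (toK_germ hw t).symm] at h''
    exact h''
  have hIV := pull_ι_eq_one hI hg
  have hMV : PicM.pull V.ι (PicM.of hM) = 1 := by
    have h := congrArg (PicM.pull V.ι) hMI
    rwa [map_mul, hIV, mul_one, map_one] at h
  obtain ⟨gM, hgM⟩ := exists_gen_of_pull hM hMV
  obtain ⟨cM, -, hcM⟩ := RS.exists V w hη hM hgM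
  obtain ⟨em⟩ := (PicM.of_eq_one_iff _).1 ((PicM.of_mul hM hI).symm.trans hMI)
  have huM : IsU w (cM * τ⁻¹) := RS.isUnit_one V w hη hext (RS.iso V w (RS.tmul V w hcM hcI) em)
  have hpow : ∀ {N : P.Modules} (hN : PicF.IsInvertible N) {c : P.functionField}, RS V w N c →
      ∀ k : ℕ, IsU w (c ^ k) → PicM.of hN ^ k = 1 := fun hN c h k hk => by
    rw [← PicM.of_tensorPow, PicM.of_eq_one_iff]
    exact RS.trivial V w hP hdiv (isInvertible_tensorPow hN k) (RS.pow V w hη h k) hk
  have hpow' : ∀ {N : P.Modules} (hN : PicF.IsInvertible N) {c : P.functionField}, RS V w N c →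
      ∀ k : ℕ, PicM.of hN ^ k = 1 → IsU w (c ^ k) := fun hN c h k hk => by
    rw [← PicM.of_tensorPow, PicM.of_eq_one_iff] at hk
    obtain ⟨e⟩ := hk
    exact RS.isUnit_one V w hη hext (RS.iso V w (RS.pow V w hη h k) e)
  refine ⟨hIV, hMV, fun a ha => ?_, fun n hn => ?_⟩
  · obtain ⟨N, hN, rfl⟩ := PicM.exists_eq_of a
    obtain ⟨gN, hgN⟩ := exists_gen_of_pull hN ha
    obtain ⟨c, hc0, hcN⟩ := RS.exists V w hη hN hgN
    obtain ⟨x, y, hy, hxy⟩ := IsFractionRing.div_surjective (A := P.presheaf.stalk w) c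
    change toK w x / toK w y = c at hxy
    have hx0 : x ≠ 0 := fun h => hc0 (by rw [← hxy, h, map_zero, zero_div])
    have hdec : ∀ z : P.presheaf.stalk w, z ≠ 0 → ∃ (n : ℕ) (v : P.functionField), IsU w v ∧ toK w z = τ ^ n * v := by
      intro z hz
      obtain ⟨n, v, hv, rfl⟩ := WfDvdMonoid.max_power_factor hz hirr
      refine ⟨n, _, ⟨v, ?_, rfl⟩, by rw [map_mul, map_pow]⟩
      by_contra hnu
      exact hv (Ideal.mem_span_singleton.1 (hmax ▸ (IsLocalRing.mem_maximalIdeal v).2 hnu))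
    obtain ⟨n, ux, hux, hxe⟩ := hdec x hx0
    obtain ⟨m, uy, huy, hye⟩ := hdec y (nonZeroDivisors.ne_zero hy)
    rw [hxe, hye] at hxy
    rcases le_total m n with hle | hle
    · refine ⟨n - m, Or.inr ?_⟩
      have h1 : PicM.of hN * PicM.of hI ^ (n - m) = 1 := by
        rw [← PicM.of_tensorPow, PicM.of_mul, PicM.of_eq_one_iff]
        refine RS.trivial V w hP hdiv (isInvertible_tensorMod hN (isInvertible_tensorPow hI _))
          (RS.tmul V w hcN (RS.pow V w hη hcI _)) ?_
        show IsU w _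
        convert hux.mul huy.inv using 1
        rw [← hxy, inv_pow, ← Nat.sub_add_cancel hle, pow_add]
        simp only [Nat.add_sub_cancel]
        field_simp
      have h2 : PicM.of hM ^ (n - m) * PicM.of hI ^ (n - m) = 1 := by rw [← mul_pow, hMI, one_pow]
      exact mul_right_cancel (h1.trans h2.symm)
    · refine ⟨m - n, Or.inl ?_⟩
      have h1 : PicM.of hN * PicM.of hM ^ (m - n) = 1 := by
        rw [← PicM.of_tensorPow, PicM.of_mul, PicM.of_eq_one_iff]
        refine RS.trivial V w hP hdiv (isInvertible_tensorMod hN (isInvertible_tensorPow hM _))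
          (RS.tmul V w hcN (RS.pow V w hη hcM _)) ?_
        show IsU w _
        convert (hux.mul huy.inv).mul (huM.pow (m - n)) using 1
        rw [← hxy, mul_pow, inv_pow, ← Nat.sub_add_cancel hle, pow_add]
        simp only [Nat.add_sub_cancel]
        field_simp
      have h2 : PicM.of hI ^ (m - n) * PicM.of hM ^ (m - n) = 1 := by
        rw [← mul_pow, mul_comm, hMI, one_pow]
      exact mul_right_cancel (h1.trans h2.symm)
  · have h1 : PicM.of hI ^ n = 1 := by
      rcases hn with h | h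
      · exact h
      · have := congrArg (fun x => x ^ n) hMI
        simpa [mul_pow, h] using this
    obtain ⟨u, hu, hue⟩ := (hpow' hI hcI n h1).inv
    rw [inv_pow, inv_inv, ← map_pow] at hue
    by_contra hn0
    exact hirr.not_isUnit ((isUnit_pow_iff hn0).1 (hinj hue ▸ hu))

/-- The Picard group of a blow-up along a regular subvariety of codimension at least two. -/
theorem pic_blowUp {k : Type u} [Field k] {X Y X' : Scheme.{u}} (p : X ⟶ Spec (CommRingCat.of k))
    [LocallyOfFiniteType p] [IsIntegral X] (hX : ∀ x : X, IsRegularLocalRing (X.presheaf.stalk x))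
    (i : Y ⟶ X) [IsClosedImmersion i] [IsIntegral Y] (hY : ∀ y : Y, IsRegularLocalRing (Y.presheaf.stalk y))
    (dX dY r : ℕ) (hdX : topologicalKrullDim X = dX) (hdY : topologicalKrullDim Y = dY) (hr : dY + r = dX) (h2 : 2 ≤ r)
    (π : X' ⟶ X) (hπ : BlowUp.IsBlowUp π i.ker)
    (M : X'.Modules) (hM : ClSub.IsInverseOf M (ClSub.idealMod (BlowUp.exceptional π i.ker))) :
    ∃ (hI : PicF.IsInvertible (ClSub.idealMod (BlowUp.exceptional π i.ker))) (hMi : PicF.IsInvertible M),
      (∀ a : PicM X', ∃ (b : PicM X) (n : ℕ), a = PicM.pull π b * PicM.of hI ^ n ∨ a = PicM.pull π b * PicM.of hMi ^ n) ∧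
        (∀ (b : PicM X) (n : ℕ), (PicM.pull π b * PicM.of hI ^ n = 1 ∨ PicM.pull π b * PicM.of hMi ^ n = 1) →
          n = 0 ∧ b = 1) ∧
        ∀ a : PicM X', PicM.pull (SDiv28.offCenter π i.ker).ι a = 1 →
          ∃ n : ℕ, a = PicM.of hI ^ n ∨ a = PicM.of hMi ^ n := by
  haveI : IsLocallyNoetherian X := LocallyOfFiniteType.isLocallyNoetherian p
  have hdim := two_le_ringKrullDim p i dX dY r hdX hdY hr h2
  have hηX : genericPoint X ∈ i.ker.support.compl := by
    intro h
    obtain ⟨y, hy⟩ := (support_ker_eq_range i).le h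
    have h1 := hdim y
    rw [ringKrullDim_stalk_eq_coheight, hy,
      Order.coheight_eq_zero.2 (fun z hz => (Scheme.le_iff_specializes.2 (genericPoint_specializes z)))] at h1
    exact absurd (WithBot.coe_le_coe.1 h1 : (2 : ℕ∞) ≤ 0) (by simp)
  haveI : IsIntegral X' := Resolve13.isIntegral_blowUp hπ hηX
  haveI : IsProper π := BlowUpLib.isProper_of_isBlowUp hπ (FlatMorAdm.isFiniteTypeIdeal_of_noetherian i.ker)
  haveI : IsLocallyNoetherian X' := LocallyOfFiniteType.isLocallyNoetherian π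
  haveI := SDiv28.isIso_off_center hπ
  obtain ⟨w, hbw, hwz, W, hw, t, ht, hIW, hmax⟩ := exists_exceptional_generic hX i hY hηX hπ
  have hI : PicF.IsInvertible (ClSub.idealMod (BlowUp.exceptional π i.ker)) :=
    FlatMor12.IdealModGen.isInvertible_idealMod _ hπ.1
  have hMi : PicF.IsInvertible M := ExcC13.isInvertible_inverse _ hπ.1 hM
  have hMI : PicM.of hMi * PicM.of hI = 1 := by
    rw [PicM.of_mul, PicM.of_eq_one_iff]
    exact hM
  refine ⟨hI, hMi, ?_⟩
  let U : X.Opens := i.ker.support.compl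
  let V : X'.Opens := SDiv28.offCenter π i.ker
  have hη' : genericPoint X' ∈ V := by
    obtain ⟨x, hx⟩ := (π ∣_ U).surjective ⟨_, hηX⟩
    exact (genericPoint_specializes x.1).mem_open V.isOpen x.2
  have hwS : π w ∈ i.ker.support := (support_ker_eq_range i).ge ⟨_, hbw.symm⟩
  obtain ⟨hIV, hMV, hcl, hzero⟩ := classes_trivial_off (Models7.isNormalScheme_of_regular (isRegular_blowUp hX i hY hπ))
    V w hη' (fun z hz => by
      by_cases hzV : z ∈ V
      · exact Or.inl hzV
      · rcases hz.2 w (hwz z (not_not.1 hzV)) with h | h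
        · exact Or.inr h.symm
        · exact absurd hwS (fun hs => (h ▸ hη' : w ∈ V) hs))
    (fun a ha => exists_unit_at hX i hdim hπ hbw hη' a ha) W.2 hw ht hmax (BlowUp.exceptional π i.ker)
    (Opens.ext (congrArg (fun C : Closeds X' => (C : Set X')ᶜ) (i.ker.support_comap π)).symm) hIW hI hMi hMI
  obtain ⟨hinj, hsurj⟩ := Lef23.pic_restrict_open (U := U) fun y hy => by
    obtain ⟨z, rfl⟩ := (support_ker_eq_range i).le (not_not.1 hy)
    exact Lef23.good_of_regular_or_ci _ (Or.inl ⟨hX _, hdim z⟩)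
  have hcomm : ∀ b : PicM X, PicM.pull V.ι (PicM.pull π b) = PicM.pull (π ∣_ U) (PicM.pull U.ι b) := fun b => by
    rw [PicM.pull_pull, PicM.pull_pull, morphismRestrict_ι]
    rfl
  refine ⟨fun a => ?_, fun b n hn => ?_, hcl⟩
  · obtain ⟨L₀, hL₀, hb₀⟩ := PicM.exists_eq_of (PicM.pull (inv (π ∣_ U)) (PicM.pull V.ι a))
    obtain ⟨L, hL, he⟩ := hsurj L₀ hL₀
    have hbU : PicM.pull (π ∣_ U) (PicM.pull U.ι (PicM.of hL)) = PicM.pull V.ι a := by
      rw [PicM.pull_of U.ι hL, (PicM.of_eq_iff _ hL₀).2 he, ← hb₀, PicM.pull_pull, IsIso.hom_inv_id, PicM.pull_id]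
    obtain ⟨L', ⟨e'⟩⟩ := VarietyLib.exists_isInverseOf hL
    have hL' : PicF.IsInvertible L' :=
      PicM.isInvertible_of_tensor hL (glocus_isInvertible_of_iso e'.symm isInvertible_structureModule)
    have hLL : PicM.of hL * PicM.of hL' = 1 := by
      rw [PicM.of_mul, PicM.of_eq_one_iff]
      exact ⟨e'⟩
    obtain ⟨n, hn⟩ := hcl (a * PicM.pull π (PicM.of hL')) (by
      rw [map_mul, ← hbU, ← hcomm, ← map_mul, ← map_mul, hLL, map_one, map_one])
    have ha : a = PicM.pull π (PicM.of hL) * (a * PicM.pull π (PicM.of hL')) := by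
      rw [mul_left_comm, ← map_mul, hLL, map_one, mul_one]
    exact ⟨PicM.of hL, n, hn.imp (fun h => ha.trans (congrArg _ h)) fun h => ha.trans (congrArg _ h)⟩
  · have h1 : PicM.pull V.ι (PicM.pull π b) = 1 := by
      rcases hn with h | h <;>
      · have h' := congrArg (PicM.pull V.ι) h
        simpa [map_mul, map_pow, hIV, hMV] using h'
    rw [hcomm] at h1
    have h2 := congrArg (PicM.pull (inv (π ∣_ U))) h1
    rw [PicM.pull_pull, IsIso.inv_hom_id, PicM.pull_id] at h2
    replace h2 := h2.trans (map_one (PicM.pull (inv (π ∣_ U))))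
    obtain ⟨L, hL, rfl⟩ := PicM.exists_eq_of b
    rw [PicM.pull_of, PicM.of_eq_one_iff] at h2
    have hb : PicM.of hL = 1 := (PicM.of_eq_one_iff hL).2 (hinj L hL h2)
    refine ⟨hzero n (hn.imp (fun h => ?_) fun h => ?_), hb⟩ <;>
      rwa [hb, map_one, one_mul] at h

end Groth.Agent.PicBlowUp13
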